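import Groth.Prelude.Def_Conn
import Mathlib

/-!
# Covariant derivatives of induced connections
-/

set_option autoImplicit false
set_option linter.style.haveILetI false
set_option linter.unusedSectionVars false
universe v u

noncomputable section

open TensorProduct Conn

namespace Groth.Agent.H27Conn

variable {A : Type v} {B Ω M M' : Type u} [CommRing A] [CommRing B] [Algebra A B]
  [AddCommGroup Ω] [Module B Ω] [Module A Ω] [IsScalarTower A B Ω]
  [AddCommGroup M] [Module B M] [Module A M] [IsScalarTower A B M]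
  [AddCommGroup M'] [Module B M'] [Module A M'] [IsScalarTower A B M']

/-- Contraction with a functional. -/
def contr (N : Type u) [AddCommGroup N] [Module B N] (θ : Ω →ₗ[B] B) : N ⊗[B] Ω →ₗ[B] N :=
  (TensorProduct.rid B N).toLinearMap ∘ₗ TensorProduct.map LinearMap.id θ

omit [Module A Ω] [IsScalarTower A B Ω] in
theorem contr_tmul {N : Type u} [AddCommGroup N] [Module B N] (θ : Ω →ₗ[B] B) (n : N) (w : Ω) :
    contr N θ (n ⊗ₜ w) = θ w • n := by
  simp [contr]

omit [Module A Ω] [IsScalarTower A B Ω] in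
theorem contr_map {N N' : Type u} [AddCommGroup N] [Module B N] [AddCommGroup N'] [Module B N']
    (f : N →ₗ[B] N') (θ : Ω →ₗ[B] B) (z : N ⊗[B] Ω) :
    contr N' θ (TensorProduct.map f LinearMap.id z) = f (contr N θ z) := by
  induction z using TensorProduct.induction_on with
  | zero => simp
  | tmul n w => simp [contr_tmul]
  | add x y hx hy => simp [hx, hy]

omit [Module A Ω] [IsScalarTower A B Ω] in
theorem along_eq (nabla : M →ₗ[A] M ⊗[B] Ω) (θ : Ω →ₗ[B] B) (m : M) :
    along nabla θ m = contr M θ (nabla m) := rfl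

omit [Module A Ω] [IsScalarTower A B Ω] in
theorem eq_of_contr {N : Type u} [AddCommGroup N] [Module B N] [Module.Free B Ω]
    (z z' : N ⊗[B] Ω) (h : ∀ θ, contr N θ z = contr N θ z') : z = z' := by
  let b := Module.Free.chooseBasis B Ω
  apply (TensorProduct.equivFinsuppOfBasisRight (M := N) b).injective
  refine Finsupp.ext fun i => ?_
  have key : ∀ y : N ⊗[B] Ω,
      TensorProduct.equivFinsuppOfBasisRight (M := N) b y i = contr N (b.coord i) y := by
    intro y
    induction y using TensorProduct.induction_on with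
    | zero => simp
    | tmul n w => simp [contr_tmul]
    | add x y hx hy => simp [hx, hy]
  rw [key, key, h]

theorem along_smul {δ : Derivation A B Ω} {nabla : M →ₗ[A] M ⊗[B] Ω} (hc : IsConn δ nabla)
    (θ : Ω →ₗ[B] B) (b : B) (m : M) :
    along nabla θ (b • m) = b • along nabla θ m + θ (δ b) • m := by
  rw [along_eq, hc, map_add, map_smul, contr_tmul, ← along_eq]

theorem along_triv (δ : Derivation A B Ω) (θ : Ω →ₗ[B] B) (b : B) :
    along (triv δ) θ b = θ (δ b) := by
  rw [along_eq, triv_apply, contr_tmul, smul_eq_mul, mul_one]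

theorem isHorizontal_of_along [Module.Free B Ω] {nabla : M →ₗ[A] M ⊗[B] Ω} {nabla' : M' →ₗ[A] M' ⊗[B] Ω}
    {φ : M →ₗ[B] M'} (h : ∀ θ m, along nabla' θ (φ m) = φ (along nabla θ m)) :
    IsHorizontal nabla nabla' φ := fun m => eq_of_contr _ _ fun θ => by
  rw [contr_map, ← along_eq, ← along_eq, h]

theorem along_homConn {nabla : M →ₗ[A] M ⊗[B] Ω} {nabla' : M' →ₗ[A] M' ⊗[B] Ω}
    {nabla'' : (M →ₗ[B] M') →ₗ[A] (M →ₗ[B] M') ⊗[B] Ω} (hE : IsHomConn nabla nabla' nabla'')
    (θ : Ω →ₗ[B] B) (φ : M →ₗ[B] M') (m : M) :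
    along nabla'' θ φ m = along nabla' θ (φ m) - φ (along nabla θ m) := by
  have h := congrArg (contr M' θ) (hE φ m)
  rwa [contr_map, map_sub, contr_map] at h

theorem along_tensorConn {nabla : M →ₗ[A] M ⊗[B] Ω} {nabla' : M' →ₗ[A] M' ⊗[B] Ω}
    {nabla'' : M ⊗[B] M' →ₗ[A] (M ⊗[B] M') ⊗[B] Ω} (hT : IsTensorConn nabla nabla' nabla'')
    (θ : Ω →ₗ[B] B) (m : M) (m' : M') :
    along nabla'' θ (m ⊗ₜ[B] m') = along nabla θ m ⊗ₜ[B] m' + m ⊗ₜ[B] along nabla' θ m' := by
  rw [along_eq, hT, map_add]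
  congr 1
  · rw [along_eq]
    induction nabla m using TensorProduct.induction_on with
    | zero => simp
    | tmul n w => simp [swapR_tmul, contr_tmul, TensorProduct.smul_tmul']
    | add x y hx hy => rw [TensorProduct.add_tmul, map_add, map_add, hx, hy, map_add, TensorProduct.add_tmul]
  · rw [along_eq]
    induction nabla' m' using TensorProduct.induction_on with
    | zero => simp
    | tmul n w => simp [contr_tmul, TensorProduct.tmul_smul]
    | add x y hx hy => rw [TensorProduct.tmul_add, map_add, map_add, hx, hy, map_add, TensorProduct.tmul_add]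

theorem along_comp {M'' : Type u} [AddCommGroup M''] [Module B M''] [Module A M''] [IsScalarTower A B M'']
    {nE : M →ₗ[A] M ⊗[B] Ω} {nF : M' →ₗ[A] M' ⊗[B] Ω} {nG : M'' →ₗ[A] M'' ⊗[B] Ω}
    {nEF : (M →ₗ[B] M') →ₗ[A] (M →ₗ[B] M') ⊗[B] Ω} {nFG : (M' →ₗ[B] M'') →ₗ[A] (M' →ₗ[B] M'') ⊗[B] Ω}
    {nEG : (M →ₗ[B] M'') →ₗ[A] (M →ₗ[B] M'') ⊗[B] Ω} (hEF : IsHomConn nE nF nEF)
    (hFG : IsHomConn nF nG nFG) (hEG : IsHomConn nE nG nEG) (θ : Ω →ₗ[B] B)
    (ψ : M' →ₗ[B] M'') (φ : M →ₗ[B] M') :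
    along nEG θ (ψ ∘ₗ φ) = along nFG θ ψ ∘ₗ φ + ψ ∘ₗ along nEF θ φ := by
  refine LinearMap.ext fun m => ?_
  simp only [LinearMap.add_apply, LinearMap.comp_apply, along_homConn hEG, along_homConn hFG,
    along_homConn hEF, map_sub]
  abel

theorem trace_along [Module.Finite B M] [Module.Free B M] {δ : Derivation A B Ω}
    {nabla : M →ₗ[A] M ⊗[B] Ω} (hc : IsConn δ nabla)
    {nablaE : (M →ₗ[B] M) →ₗ[A] (M →ₗ[B] M) ⊗[B] Ω} (hE : IsHomConn nabla nabla nablaE)
    (θ : Ω →ₗ[B] B) (φ : M →ₗ[B] M) :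
    LinearMap.trace B M (along nablaE θ φ) = θ (δ (LinearMap.trace B M φ)) := by
  classical
  let b := Module.Free.chooseBasis B M
  let a : Module.Free.ChooseBasisIndex B M → Module.Free.ChooseBasisIndex B M → B := fun i j => b.repr (φ (b j)) i
  let Γ : M →ₗ[B] M := b.constr B fun j => along nabla θ (b j)
  let Dφ : M →ₗ[B] M := b.constr B fun j => ∑ i, θ (δ (a i j)) • b i
  have hD : along nablaE θ φ = Dφ + (Γ ∘ₗ φ - φ ∘ₗ Γ) := by
    refine b.ext fun j => ?_
    simp only [along_homConn hE, LinearMap.add_apply, LinearMap.sub_apply, LinearMap.comp_apply, Dφ, Γ,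
      Module.Basis.constr_basis]
    rw [show φ (b j) = ∑ i, a i j • b i from (b.sum_repr _).symm]
    simp only [map_sum, map_smul, Module.Basis.constr_basis, along_smul hc, Finset.sum_add_distrib]
    abel
  rw [hD, map_add, map_sub, LinearMap.trace_comp_comm', sub_self, add_zero,
    LinearMap.trace_eq_matrix_trace B b, LinearMap.trace_eq_matrix_trace B b, Matrix.trace, Matrix.trace,
    map_sum, map_sum]
  refine Finset.sum_congr rfl fun i _ => ?_
  rw [Matrix.diag_apply, Matrix.diag_apply, LinearMap.toMatrix_apply, LinearMap.toMatrix_apply]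
  simp [Dφ, a, Finsupp.single_apply]

end Groth.Agent.H27Conn
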