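import Mathlib

/-! # Logarithmic differentials and prime elements -/

set_option autoImplicit false
set_option linter.unusedSectionVars false

noncomputable section

universe u

namespace Groth.Agent.H27Conn.Dlog

open KaehlerDifferential

theorem dvd_of_smul_D_eq {k R : Type u} [Field k] [CharZero k] [CommRing R] [IsDomain R] [Algebra k R]
    [Algebra.EssFiniteType k R] {π : R} (hπ : Prime π) {x : R} {y : Ω[R⁄k]}
    (h : x • D k R π = π • y) : π ∣ x := by
  have hP : (Ideal.span {π}).IsPrime := (Ideal.span_singleton_prime hπ.ne_zero).mpr hπ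
  let A := Localization.AtPrime (Ideal.span {π})
  let m : Ideal A := IsLocalRing.maximalIdeal A
  have hm : m = Ideal.span {algebraMap R A π} := by
    rw [show m = (Ideal.span {π}).map (algebraMap R A) from Localization.AtPrime.map_eq_maximalIdeal.symm,
      Ideal.map_span, Set.image_singleton]
  haveI : m.IsMaximal := IsLocalRing.maximalIdeal.isMaximal A
  letI : Field (A ⧸ m) := Ideal.Quotient.field m
  haveI : Algebra.EssFiniteType k A := Algebra.EssFiniteType.comp k R A
  haveI : Algebra.EssFiniteType k (A ⧸ m) := inferInstance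
  haveI : CharZero k := inferInstance
  haveI : Algebra.FormallySmooth k (A ⧸ m) := Algebra.FormallySmooth.of_perfectField
  have hle : m ^ 2 ≤ m := Ideal.pow_le_self two_ne_zero
  let q : (A ⧸ m ^ 2) →ₐ[k] A ⧸ m := Ideal.Quotient.factorₐ k hle
  have hq : Function.Surjective q := Ideal.Quotient.factor_surjective hle
  have hker : ∀ z w : A ⧸ m ^ 2, q z = 0 → q w = 0 → z * w = 0 := by
    intro z w
    obtain ⟨z, rfl⟩ := Ideal.Quotient.mk_surjective z
    obtain ⟨w, rfl⟩ := Ideal.Quotient.mk_surjective w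
    intro hz hw
    have hz' : z ∈ m := Ideal.Quotient.eq_zero_iff_mem.mp hz
    have hw' : w ∈ m := Ideal.Quotient.eq_zero_iff_mem.mp hw
    rw [← map_mul, Ideal.Quotient.eq_zero_iff_mem, sq]
    exact Ideal.mul_mem_mul hz' hw'
  have hnil : IsNilpotent (RingHom.ker (q : (A ⧸ m ^ 2) →+* A ⧸ m)) :=
    ⟨2, le_bot_iff.mp (by
      have hI : ∀ I : Ideal (A ⧸ m ^ 2), I ^ 2 = I * I := fun I => sq I
      rw [hI (RingHom.ker _), Ideal.mul_le]
      exact fun z hz w hw => hker z w hz hw)⟩
  let s : (A ⧸ m) →ₐ[k] A ⧸ m ^ 2 :=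
    Algebra.FormallySmooth.liftOfSurjective (AlgHom.id k (A ⧸ m)) q hq hnil
  have hs : ∀ z, q (s z) = z := fun z =>
    Algebra.FormallySmooth.liftOfSurjective_apply (AlgHom.id k (A ⧸ m)) q hq hnil z
  let g : R →ₐ[k] A ⧸ m ^ 2 := IsScalarTower.toAlgHom k R (A ⧸ m ^ 2)
  let σ : R →ₐ[k] A ⧸ m ^ 2 := s.comp (q.comp g)
  have hJ : ∀ r, q (g r - σ r) = 0 := fun r => by
    show q (g r - s (q (g r))) = 0
    rw [map_sub, hs, sub_self]
  let L : R →ₗ[k] A ⧸ m ^ 2 := g.toLinearMap - σ.toLinearMap
  let Dd : Derivation k R (A ⧸ m ^ 2) := Derivation.mk' L fun a b => by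
    show g (a * b) - σ (a * b) = a • (g b - σ b) + b • (g a - σ a)
    have h0 := hker _ _ (hJ a) (hJ b)
    rw [Algebra.smul_def, Algebra.smul_def, map_mul, map_mul]
    show g a * g b - σ a * σ b = g a * (g b - σ b) + g b * (g a - σ a)
    linear_combination -h0
  have hσπ : σ π = 0 := by
    show s (q (g π)) = 0
    have : q (g π) = 0 := by
      show Ideal.Quotient.mk m (algebraMap R A π) = 0
      rw [Ideal.Quotient.eq_zero_iff_mem, hm]
      exact Ideal.mem_span_singleton_self _
    rw [this, map_zero]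
  have hval : ∀ z : Ω[R⁄k], q (Dd.liftKaehlerDifferential z) = 0 := by
    intro z
    have hz : z ∈ Submodule.span R (Set.range (D k R)) := by rw [span_range_derivation]; trivial
    induction hz using Submodule.span_induction with
    | mem w hw => obtain ⟨r, rfl⟩ := hw; rw [Derivation.liftKaehlerDifferential_comp_D]; exact hJ r
    | zero => simp
    | add a b _ _ ha hb => rw [map_add, map_add, ha, hb, add_zero]
    | smul c w _ hw => rw [map_smul, Algebra.smul_def, map_mul, hw, mul_zero]
  have h2 := congrArg Dd.liftKaehlerDifferential h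
  rw [map_smul, map_smul, Derivation.liftKaehlerDifferential_comp_D, Algebra.smul_def, Algebra.smul_def] at h2
  have hDπ : Dd π = g π := by
    show g π - σ π = g π
    rw [hσπ, sub_zero]
  have hqπ : q (g π) = 0 := by
    have := hJ π
    rwa [hσπ, sub_zero] at this
  rw [hDπ, show (algebraMap R (A ⧸ m ^ 2)) π * Dd.liftKaehlerDifferential y = 0 from hker _ _ hqπ (hval y)]
    at h2
  have h3 : Ideal.Quotient.mk (m ^ 2) (algebraMap R A x * algebraMap R A π) = 0 := by rw [map_mul]; exact h2
  rw [Ideal.Quotient.eq_zero_iff_mem, hm, Ideal.span_singleton_pow, Ideal.mem_span_singleton, sq] at h3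
  obtain ⟨c, hc⟩ := h3
  have hinj : Function.Injective (algebraMap R A) :=
    IsLocalization.injective A (Ideal.span {π}).primeCompl_le_nonZeroDivisors
  have hπA : algebraMap R A π ≠ 0 := fun e => hπ.ne_zero (hinj (by rw [e, map_zero]))
  have hx : algebraMap R A x ∈ m := by
    rw [hm, Ideal.mem_span_singleton]
    exact ⟨c, mul_right_cancel₀ hπA (by rw [hc]; ring)⟩
  exact Ideal.mem_span_singleton.mp ((IsLocalization.AtPrime.to_map_mem_maximal_iff A _ x).mp hx)

theorem exists_eq_unit_mul_prod {R : Type u} [CommRing R] [IsDomain R] [UniqueFactorizationMonoid R] {r : ℕ}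
    (f : Fin r → R) {a : R} (ha : a ≠ 0) (h : ∀ π, Prime π → π ∣ a → ∃ i, Associated π (f i)) :
    ∃ (v : Rˣ) (e : Fin r → ℕ), a = v * ∏ i, f i ^ e i := by
  induction a using UniqueFactorizationMonoid.induction_on_prime with
  | h₁ => exact absurd rfl ha
  | h₂ x hx => exact ⟨hx.unit, 0, by simp⟩
  | h₃ a p ha' hp ih =>
    obtain ⟨v, e, he⟩ := ih ha' fun π hπ hd => h π hπ (hd.mul_left p)
    obtain ⟨i, hi⟩ := h p hp (dvd_mul_right p a)
    obtain ⟨w, hw⟩ := hi.symm
    refine ⟨w * v, e + Pi.single i 1, ?_⟩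
    have : ∏ j, f j ^ (e + Pi.single i 1 : Fin r → ℕ) j = (∏ j, f j ^ e j) * f i := by
      simp only [Pi.add_apply, pow_add, Finset.prod_mul_distrib]
      congr 1
      rw [Finset.prod_eq_single i (fun j _ hj => by rw [Pi.single_eq_of_ne hj, pow_zero]) (by simp),
        Pi.single_eq_same, pow_one]
    rw [this, he, ← hw, Units.val_mul]
    ring

/-- `x ↦ x⁻¹ dx` as a homomorphism. -/
def dlogHom (k K : Type u) [Field k] [Field K] [Algebra k K] : Kˣ →* Multiplicative Ω[K⁄k] where
  toFun x := Multiplicative.ofAdd ((x : K)⁻¹ • D k K (x : K))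
  map_one' := by simp
  map_mul' x y := by
    show _ = Multiplicative.ofAdd _
    congr 1
    show ((x * y : Kˣ) : K)⁻¹ • D k K ((x * y : Kˣ) : K) = (x : K)⁻¹ • D k K (x : K) + (y : K)⁻¹ • D k K (y : K)
    rw [Units.val_mul, Derivation.leibniz, smul_add, smul_smul, smul_smul, add_comm, mul_inv]
    congr 1 <;> congr 1 <;> field_simp

theorem dlog_unit_mul_prod_zpow {k K : Type u} [Field k] [Field K] [Algebra k K] {r : ℕ} (x : Kˣ)
    (f : Fin r → Kˣ) (b : Fin r → ℤ) :
    ((x * ∏ i, f i ^ b i : Kˣ) : K)⁻¹ • D k K ((x * ∏ i, f i ^ b i : Kˣ) : K) =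
      (x : K)⁻¹ • D k K (x : K) + ∑ i, ((b i : K) * (f i : K)⁻¹) • D k K (f i : K) := by
  have h := congrArg Multiplicative.toAdd (map_mul (dlogHom k K) x (∏ i, f i ^ b i))
  rw [map_prod] at h
  simp only [map_zpow] at h
  simp only [dlogHom, MonoidHom.coe_mk, OneHom.coe_mk, toAdd_mul, toAdd_prod, toAdd_zpow, toAdd_ofAdd] at h
  rw [h]
  congr 1
  refine Finset.sum_congr rfl fun i _ => ?_
  rw [mul_smul, Int.cast_smul_eq_zsmul]

theorem map_kaehler_injective {k R K : Type u} [Field k] [CommRing R] [IsDomain R] [Algebra k R]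
    [Module.Projective R Ω[R⁄k]] [Field K] [Algebra R K] [IsFractionRing R K] [Algebra k K]
    [IsScalarTower k R K] : Function.Injective (KaehlerDifferential.map k k R K) := by
  haveI : Algebra.FormallyEtale R K := Algebra.FormallyEtale.of_isLocalization (nonZeroDivisors R)
  intro x y hxy
  have h1 : ((1 : K) ⊗ₜ[R] x : TensorProduct R K Ω[R⁄k]) = (1 : K) ⊗ₜ[R] y := by
    apply (tensorKaehlerEquivOfFormallyEtale k R K).injective
    rw [tensorKaehlerEquivOfFormallyEtale_apply, tensorKaehlerEquivOfFormallyEtale_apply, mapBaseChange_tmul,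
      mapBaseChange_tmul, hxy]
  have hinj : Function.Injective (LinearMap.rTensor Ω[R⁄k] (Algebra.linearMap R K)) :=
    Module.Flat.rTensor_preserves_injective_linearMap _ (IsFractionRing.injective R K)
  apply (TensorProduct.lid R Ω[R⁄k]).symm.injective
  apply hinj
  simpa using h1

theorem dlog_eq {k R K : Type u} [Field k] [CharZero k] [CommRing R] [IsDomain R]
    [UniqueFactorizationMonoid R] [Algebra k R] [Algebra.EssFiniteType k R] [Module.Projective R Ω[R⁄k]]
    [Field K] [Algebra R K] [IsFractionRing R K] [Algebra k K] [IsScalarTower k R K]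
    {r : ℕ} (f : Fin r → R) (hf : ∀ i, Prime (f i))
    (g : Kˣ) (η : Ω[R⁄k]) (c : Fin r → R)
    (h : (g : K)⁻¹ • D k K (g : K) = KaehlerDifferential.map k k R K η +
        ∑ i, (algebraMap R K (c i) * (algebraMap R K (f i))⁻¹) • D k K (algebraMap R K (f i))) :
    ∃ (v : Rˣ) (b : Fin r → ℤ),
      (g : K)⁻¹ • D k K (g : K) = (algebraMap R K (v : R))⁻¹ • D k K (algebraMap R K (v : R)) +
          ∑ i, ((b i : K) * (algebraMap R K (f i))⁻¹) • D k K (algebraMap R K (f i)) := by
  classical
  have hinj : Function.Injective (algebraMap R K) := IsFractionRing.injective R K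
  obtain ⟨a, ⟨b, hbmem⟩, hred, hab⟩ : ∃ (a : R) (b : nonZeroDivisors R), IsRelPrime a (b : R) ∧
      IsLocalization.mk' K a b = (g : K) :=
    ⟨_, _, IsFractionRing.num_den_reduced R (g : K), IsFractionRing.mk'_num_den R (g : K)⟩
  have hb : b ≠ 0 := nonZeroDivisors.ne_zero hbmem
  have hg : (g : K) * algebraMap R K b = algebraMap R K a := by
    rw [← hab]; exact IsLocalization.mk'_spec K a ⟨b, hbmem⟩
  have ha : a ≠ 0 := fun e => g.ne_zero (by
    have := hg; rw [e, map_zero, mul_eq_zero] at this
    exact this.resolve_right fun h0 => hb (hinj (by rw [h0, map_zero])))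
  let P : R := ∏ i, f i
  let θ : Ω[R⁄k] := P • η + ∑ i, (c i * ∏ j ∈ Finset.univ.erase i, f j) • D k R (f i)
  have haK : algebraMap R K a ≠ 0 := fun e => ha (hinj (by rw [e, map_zero]))
  have hbK : algebraMap R K b ≠ 0 := fun e => hb (hinj (by rw [e, map_zero]))
  have key : (b * P) • D k R a - (a * P) • D k R b = (a * b) • θ := by
    apply map_kaehler_injective (K := K)
    simp only [θ, map_sub, map_smul, map_add, map_sum, KaehlerDifferential.map_D, ← algebraMap_smul (R := R) K]
    have hD : D k K (g : K) =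
        (algebraMap R K b)⁻¹ • (D k K (algebraMap R K a) - (g : K) • D k K (algebraMap R K b)) := by
      rw [← hg, Derivation.leibniz, add_sub_cancel_left, smul_smul, inv_mul_cancel₀ hbK, one_smul]
    have h' := congrArg (fun z => (algebraMap R K a * algebraMap R K b * algebraMap R K P) • z) h
    rw [hD, smul_smul, smul_smul, smul_sub, smul_smul] at h'
    rw [smul_add, Finset.smul_sum] at h'
    rw [smul_add, Finset.smul_sum]
    simp only [smul_smul, ← map_mul] at h' ⊢
    have hga : (g : K)⁻¹ = algebraMap R K b / algebraMap R K a := by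
      rw [← hg]; field_simp
    convert! h' using 2
    · congr 1; rw [map_mul, map_mul, map_mul, hga]; field_simp
    · congr 1; rw [map_mul, map_mul, map_mul]; field_simp
    · refine Finset.sum_congr rfl fun i _ => ?_
      congr 1
      simp only [P, ← Finset.mul_prod_erase _ _ (Finset.mem_univ i), map_mul]
      have : algebraMap R K (f i) ≠ 0 := fun e => (hf i).ne_zero (hinj (by rw [e, map_zero]))
      field_simp
  have main : ∀ (u w : R), u ≠ 0 → IsRelPrime u w → ∀ θ : Ω[R⁄k],
      (w * P) • D k R u - (u * P) • D k R w = (u * w) • θ → ∀ π, Prime π → π ∣ u →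
      ∃ i, Associated π (f i) := by
    intro u w hu hrel θ he π hπ hdu
    by_contra hne
    rw [not_exists] at hne
    obtain ⟨e, u', hu', rfl⟩ := WfDvdMonoid.max_power_factor hu hπ.irreducible
    have he0 : e ≠ 0 := by
      rintro rfl
      exact hu' (by simpa using hdu)
    obtain ⟨e, rfl⟩ := Nat.exists_eq_succ_of_ne_zero he0
    haveI : Module.Flat R Ω[R⁄k] := inferInstance
    have h1 : π ^ e • ((w * P * (e + 1 : ℕ) * u') • D k R π) =
        π ^ e • (π • ((u' * w) • θ + (P * u') • D k R w - (w * P) • D k R u')) := by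
      have he' := he
      rw [Derivation.leibniz, Derivation.leibniz_pow, sub_eq_iff_eq_add] at he'
      simp only [Nat.succ_eq_add_one, add_tsub_cancel_right, ← Nat.cast_smul_eq_nsmul R, smul_add, smul_sub,
        smul_eq_mul, smul_smul] at he' ⊢
      linear_combination (norm := module) he'
    have htf : Module.IsTorsionFree R Ω[R⁄k] := inferInstance
    have h2 := smul_right_injective Ω[R⁄k] (pow_ne_zero e hπ.ne_zero) h1
    have hd := dvd_of_smul_D_eq hπ h2
    rcases hπ.dvd_or_dvd hd with hd | hd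
    · rcases hπ.dvd_or_dvd hd with hd | hd
      · rcases hπ.dvd_or_dvd hd with hd | hd
        · exact hπ.not_unit (hrel (dvd_mul_of_dvd_left (dvd_pow_self π (by simp)) u') hd)
        · obtain ⟨i, -, hi⟩ := hπ.exists_mem_finset_dvd hd
          exact hne i (hπ.irreducible.associated_of_dvd (hf i).irreducible hi)
      · have hu2 : IsUnit (((e + 1 : ℕ) : R)) := by
          rw [← map_natCast (algebraMap k R)]
          exact (IsUnit.mk0 _ (Nat.cast_ne_zero.mpr e.succ_ne_zero)).map _
        exact hπ.not_unit (isUnit_of_dvd_unit hd hu2)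
    · exact hu' hd
  obtain ⟨va, ea, hea⟩ := exists_eq_unit_mul_prod f ha fun π hπ hd => main a b ha hred θ key π hπ hd
  obtain ⟨vb, eb, heb⟩ := exists_eq_unit_mul_prod f hb fun π hπ hd =>
    main b a hb hred.symm (-θ) (by rw [smul_neg, mul_comm b a, ← key, neg_sub]) π hπ hd
  refine ⟨va / vb, fun i => (ea i : ℤ) - eb i, ?_⟩
  let fK : Fin r → Kˣ := fun i => Units.mk0 (algebraMap R K (f i))
    fun e => (hf i).ne_zero (hinj (by rw [e, map_zero]))
  have hg' : g = Units.map (algebraMap R K : R →* K) (va / vb) * ∏ i, fK i ^ ((ea i : ℤ) - eb i) := by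
    refine Units.ext (mul_right_cancel₀ hbK ?_)
    rw [hg, hea, heb]
    simp only [fK, Units.val_mul, Units.coe_prod, Units.val_zpow_eq_zpow_val, Units.val_mk0, Units.coe_map,
      MonoidHom.coe_coe, map_mul, map_prod, map_pow]
    have hu2 : algebraMap R K ((va / vb : Rˣ) : R) * algebraMap R K (vb : R) = algebraMap R K (va : R) := by
      rw [← map_mul, ← Units.val_mul, div_mul_cancel]
    rw [← hu2, mul_mul_mul_comm, ← Finset.prod_mul_distrib]
    congr 1
    refine Finset.prod_congr rfl fun i _ => ?_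
    have : algebraMap R K (f i) ≠ 0 := fun e => (hf i).ne_zero (hinj (by rw [e, map_zero]))
    rw [← zpow_natCast, ← zpow_natCast, ← zpow_add₀ this]
    ring_nf
  conv_lhs => rw [hg']
  rw [dlog_unit_mul_prod_zpow]
  rfl

end Groth.Agent.H27Conn.Dlog
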