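import Groth.Agent.H27Conn.Hochschild
import Groth.Agent.H27Zeta.Series
import Mathlib

/-! # The determinant attached to a lift of Frobenius is nonzero -/

set_option autoImplicit false
set_option linter.unusedSectionVars false

noncomputable section

universe u v

namespace Groth.Agent.H27Conn.GradDet

variable {k : Type u} [CommRing k] {A : Type v} [CommRing A] [Algebra k A]

theorem derivation_det_rows {n : ℕ} (D : Derivation k A A) (M : Matrix (Fin n) (Fin n) A) :
    D M.det = ∑ r, (M.updateRow r fun l => D (M r l)).det := by
  rw [← Matrix.det_transpose M, H27Zeta.derivation_det, Matrix.trace]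
  refine Finset.sum_congr rfl fun j _ => ?_
  rw [Matrix.diag_apply, ← Matrix.det_transpose, ← Matrix.updateCol_transpose]
  rw [← Matrix.cramer_apply, Matrix.cramer_eq_adjugate_mulVec]
  rfl

theorem det_updateRow_eq_sum {n : ℕ} (M : Matrix (Fin n) (Fin n) A) (i : Fin n) (v : Fin n → A) :
    (M.updateRow i v).det = ∑ l, v l * (M.updateRow i (Pi.single l 1)).det := by
  conv_lhs => rw [← Matrix.det_transpose, ← Matrix.updateCol_transpose, ← Matrix.cramer_apply]
  conv_lhs => rw [pi_eq_sum_univ' v]
  rw [map_sum (Matrix.cramer M.transpose), Finset.sum_apply]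
  simp only [map_smul, Pi.smul_apply, smul_eq_mul, Matrix.cramer_apply]
  refine Finset.sum_congr rfl fun l _ => ?_
  rw [← Matrix.det_transpose (M.updateRow i _), ← Matrix.updateCol_transpose, Matrix.det_updateCol_smul]

theorem piola {n : ℕ} (D : Fin n → Derivation k A A) (M : Matrix (Fin n) (Fin n) A)
    (hcl : ∀ r a b, D a (M r b) = D b (M r a)) (i : Fin n) :
    ∑ j, D j (M.updateRow i (Pi.single j 1)).det = 0 := by
  simp only [derivation_det_rows]
  rw [Finset.sum_comm]
  refine Finset.sum_eq_zero fun r _ => ?_
  by_cases hri : r = i
  · subst hri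
    refine Finset.sum_eq_zero fun j _ => Matrix.det_eq_zero_of_row_eq_zero r fun l => ?_
    rw [Matrix.updateRow_self, Matrix.updateRow_self, Pi.single_apply]
    split_ifs <;> simp
  · simp only [det_updateRow_eq_sum _ r (fun l => D _ _), Matrix.updateRow_ne hri]
    rw [← Finset.sum_product']
    refine Finset.sum_involution (fun x _ => (x.2, x.1)) ?_ ?_ (by simp) (by simp)
    · rintro ⟨a, b⟩ -
      simp only
      rw [hcl r b a, ← mul_add]
      have hN : (((M.updateRow i (Pi.single a 1)).updateRow r (Pi.single b 1)).det +
          ((M.updateRow i (Pi.single b 1)).updateRow r (Pi.single a 1)).det) = 0 := by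
        by_cases hab : a = b
        · subst hab
          rw [Matrix.det_zero_of_row_eq (Ne.symm hri) (by
            rw [Matrix.updateRow_self, Matrix.updateRow_ne (Ne.symm hri), Matrix.updateRow_self]), add_zero]
        · have h := Matrix.det_permute (Equiv.swap i r) ((M.updateRow i (Pi.single b 1)).updateRow r (Pi.single a 1))
          rw [Equiv.Perm.sign_swap (Ne.symm hri)] at h
          rw [show ((M.updateRow i (Pi.single a 1)).updateRow r (Pi.single b 1)) =
            ((M.updateRow i (Pi.single b 1)).updateRow r (Pi.single a 1)).submatrix (Equiv.swap i r) id by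
              ext x y
              by_cases hxi : x = i
              · subst hxi; simp [hri, Ne.symm hri]
              · by_cases hxr : x = r
                · subst hxr; simp [hri, Ne.symm hri]
                · simp [Equiv.swap_apply_of_ne_of_ne hxi hxr, hxi, hxr], h]
          simp
      rw [hN, mul_zero]
    · rintro ⟨a, b⟩ - hne heq
      simp only [Prod.mk.injEq] at heq
      obtain ⟨rfl, -⟩ := heq
      refine hne (mul_eq_zero_of_right _ ?_)
      exact Matrix.det_zero_of_row_eq (Ne.symm hri) (by
        rw [Matrix.updateRow_self, Matrix.updateRow_ne (Ne.symm hri), Matrix.updateRow_self])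

theorem det_ne_zero {k : Type u} [Field k] {A : Type v} [CommRing A] [IsDomain A] [Algebra k A]
    (p : ℕ) [Fact p.Prime] [CharP A p] {n : ℕ} (t : Fin n → A)
    (b : Module.Basis (Fin n) A (KaehlerDifferential k A)) (hb : ∀ i, b i = KaehlerDifferential.D k A (t i))
    (f : Fin n → A) :
    (Matrix.of fun i j : Fin n =>
      (if i = j then t i ^ (p - 1) else 0) + b.coord j (KaehlerDifferential.D k A (f i))).det ≠ 0 := by
  classical
  let D : Fin n → Derivation k A A := fun j => (b.coord j).compDer (KaehlerDifferential.D k A)
  have hDt : ∀ i j, D i (t j) = if j = i then 1 else 0 := fun i j => by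
    show b.coord i (KaehlerDifferential.D k A (t j)) = _
    rw [← hb, Module.Basis.coord_apply, Module.Basis.repr_self, Finsupp.single_apply]
  have hzero : ∀ E : Derivation k A A, (∀ j, E (t j) = 0) → ∀ x, E x = 0 := fun E hE x => by
    have h : E.liftKaehlerDifferential = 0 := b.ext fun j => by
      rw [hb, Derivation.liftKaehlerDifferential_comp_D, hE, LinearMap.zero_apply]
    rw [← E.liftKaehlerDifferential_comp_D, h, LinearMap.zero_apply]
  have hcomm : ∀ i j x, D i (D j x) = D j (D i x) := fun i j x => by
    have := hzero ⁅D i, D j⁆ (fun l => by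
      rw [Derivation.commutator_apply, hDt, hDt]; split_ifs <;> simp) x
    rwa [Derivation.commutator_apply, sub_eq_zero] at this
  have hiter : ∀ i x, (⇑(D i))^[p] x = 0 := fun i x => by
    obtain ⟨E, hE⟩ := exists_derivation_iterate' p (D i)
    rw [← hE]
    refine hzero E (fun j => ?_) x
    obtain ⟨m, hm⟩ : ∃ m, p = m + 2 := ⟨p - 2, by have := (Fact.out : p.Prime).two_le; omega⟩
    rw [hE, hm, Function.iterate_add_apply]
    have : (⇑(D i))^[2] (t j) = 0 := by
      show D i (D i (t j)) = 0
      rw [hDt]; split_ifs <;> simp
    rw [this, Function.iterate_fixed (map_zero (D i))]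
  let Dl : Fin n → Module.End k A := fun j => (D j).toLinearMap
  let P : List (Fin n) → Module.End k A := fun l => (l.map fun j => Dl j ^ (p - 1)).prod
  have hC : ∀ i j, Commute (Dl i) (Dl j) := fun i j => LinearMap.ext fun x => hcomm i j x
  have hP0 : ∀ (l : List (Fin n)) (j : Fin n), j ∈ l → P l * Dl j = 0 := by
    intro l j hj
    induction l with
    | nil => simp at hj
    | cons a l ih =>
      simp only [P, List.map_cons, List.prod_cons] at ih ⊢
      by_cases hjl : j ∈ l
      · rw [mul_assoc, ih hjl, mul_zero]
      · have hja : j = a := (List.mem_cons.mp hj).resolve_right hjl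
        subst hja
        have hcl : Commute (List.map (fun j => Dl j ^ (p - 1)) l).prod (Dl j) :=
          Commute.list_prod_left _ _ fun y hy => by
            obtain ⟨q, -, rfl⟩ := List.mem_map.mp hy
            exact (hC q j).pow_left _
        rw [mul_assoc, hcl.eq, ← mul_assoc, ← pow_succ, Nat.sub_add_cancel (Fact.out : p.Prime).one_le,
          show Dl j ^ p = 0 from LinearMap.ext fun x => by rw [Module.End.pow_apply]; exact hiter j x, zero_mul]
  have hDprod : ∀ (a : Fin n) (S : Finset (Fin n)), a ∉ S → D a (∏ i ∈ S, t i ^ (p - 1)) = 0 := by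
    intro a S ha
    induction S using Finset.induction_on with
    | empty => simp
    | insert c S hc ih =>
      rw [Finset.mem_insert, not_or] at ha
      rw [Finset.prod_insert hc, Derivation.leibniz, ih ha.2, Derivation.leibniz_pow, hDt,
        if_neg (Ne.symm ha.1)]
      simp
  have hval : ∀ (l : List (Fin n)), l.Nodup →
      P l (∏ i, t i ^ (p - 1)) =
        ((((p - 1).factorial ^ l.length : ℕ)) : A) * ∏ i ∈ Finset.univ \ l.toFinset, t i ^ (p - 1) := by
    intro l hl
    induction l with
    | nil => simp [P]
    | cons a l ih =>
      rw [List.nodup_cons] at hl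
      have hmem : a ∈ Finset.univ \ l.toFinset := by simp [hl.1]
      have hw : ∀ (w : A), D a w = 0 → ∀ q m : ℕ, (⇑(D a))^[m] (w * t a ^ q) = w * (q.descFactorial m * t a ^ (q - m)) := by
        intro w hw0 q m
        induction m with
        | zero => simp
        | succ m ihm =>
          rw [Function.iterate_succ_apply', ihm, Derivation.leibniz, hw0, smul_zero, add_zero,
            Derivation.leibniz, Derivation.map_natCast, smul_zero, add_zero, Derivation.leibniz_pow, hDt,
            if_pos rfl, Nat.descFactorial_succ, Nat.cast_mul]
          simp only [smul_eq_mul, nsmul_eq_mul, mul_one, Nat.sub_sub]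
          ring
      simp only [P, List.map_cons, List.prod_cons] at ih ⊢
      rw [Module.End.mul_apply, ih hl.2, ← Finset.mul_prod_erase _ _ hmem, Module.End.pow_apply,
        mul_comm (t a ^ (p - 1)), ← mul_assoc]
      show (⇑(D a))^[p - 1] _ = _
      rw [hw _ (by rw [Derivation.leibniz, Derivation.map_natCast, smul_zero, add_zero,
          hDprod a _ (Finset.notMem_erase a _), smul_zero]), Nat.descFactorial_self, Nat.sub_self, pow_zero,
        mul_one, List.length_cons, pow_succ, Nat.cast_mul]
      rw [show Finset.univ \ (a :: l).toFinset = (Finset.univ \ l.toFinset).erase a by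
        rw [List.toFinset_cons, Finset.sdiff_insert]]
      ring
  let L := (Finset.univ : Finset (Fin n)).toList
  have hmain : ∀ j x, P L (D j x) = 0 := fun j x =>
    LinearMap.congr_fun (hP0 L j (Finset.mem_toList.mpr (Finset.mem_univ j))) x
  let M : Finset (Fin n) → Matrix (Fin n) (Fin n) A := fun S => Matrix.of fun i j =>
    (if i = j then t i ^ (p - 1) else 0) + (if i ∈ S then D j (f i) else 0)
  have hclosed : ∀ S r a c, D a (M S r c) = D c (M S r a) := by
    intro S r a c
    simp only [M, Matrix.of_apply, map_add]
    have h1 : ∀ a c : Fin n, D a (if r = c then t r ^ (p - 1) else 0) =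
        if r = a ∧ r = c then ((p - 1 : ℕ) : A) * t r ^ (p - 1 - 1) else 0 := by
      intro a c
      by_cases hc : r = c
      · rw [if_pos hc, Derivation.leibniz_pow, hDt]
        by_cases ha : r = a
        · rw [if_pos ha, if_pos ⟨ha, hc⟩]; simp
        · rw [if_neg ha, if_neg (fun h => ha h.1)]; simp
      · simp [hc]
    rw [h1, h1]
    congr 1
    · simp only [and_comm]
    · split_ifs
      · exact hcomm a c _
      · simp
  have hdet : ∀ S, P L (M S).det = P L (∏ i, t i ^ (p - 1)) := by
    intro S
    induction S using Finset.induction_on with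
    | empty =>
      congr 1
      rw [show M ∅ = Matrix.diagonal (fun i => t i ^ (p - 1)) by ext i j; simp [M, Matrix.diagonal_apply],
        Matrix.det_diagonal]
    | insert i S hi ih =>
      rw [show M (insert i S) = (M S).updateRow i (M S i + fun l => D l (f i)) by
        ext x y
        by_cases hx : x = i
        · subst hx; simp [M, hi]
        · simp [M, hx],
        Matrix.det_updateRow_add, Matrix.updateRow_eq_self, map_add, ih, det_updateRow_eq_sum]
      simp only [add_eq_left]
      have hpi := piola D (M S) (hclosed S) i
      have : ∑ l, D l (f i) * ((M S).updateRow i (Pi.single l 1)).det =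
          ∑ l, D l (f i * ((M S).updateRow i (Pi.single l 1)).det) := by
        simp only [Derivation.leibniz, smul_eq_mul, Finset.sum_add_distrib, ← Finset.mul_sum, hpi,
          mul_zero, zero_add]
        exact Finset.sum_congr rfl fun l _ => mul_comm _ _
      rw [this, map_sum]
      exact Finset.sum_eq_zero fun l _ => hmain _ _
  intro h0
  have h := hdet Finset.univ
  rw [show M Finset.univ = Matrix.of fun i j : Fin n =>
      (if i = j then t i ^ (p - 1) else 0) + b.coord j (KaehlerDifferential.D k A (f i)) by
        ext i j; simp [M, D], h0, map_zero, hval L (Finset.nodup_toList _)] at h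
  rw [Finset.toList_toFinset, Finset.sdiff_self, Finset.prod_empty, mul_one, eq_comm, Nat.cast_pow] at h
  have h' := eq_zero_of_pow_eq_zero h
  rw [CharP.cast_eq_zero_iff A p, (Fact.out : p.Prime).dvd_factorial] at h'
  have := (Fact.out : p.Prime).pos
  omega

end Groth.Agent.H27Conn.GradDet
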