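import Groth.Agent.H05EGA4.Derivations
import Mathlib

/-! # Hochschild's formula for the `p`-th power of `b • D` -/

set_option autoImplicit false

noncomputable section

namespace Groth.Agent.H27Conn

open MvPolynomial

universe u v w

variable (p : ℕ) [hp : Fact p.Prime]

/-- The universal differential polynomial ring in one unknown. -/
abbrev DU : Type := MvPolynomial ℕ (ZMod p)

/-- Its derivation. -/
def dDU : Derivation (ZMod p) (DU p) (DU p) := mkDerivation (ZMod p) fun n => X (n + 1)

/-- Coefficients of `(bD)^j` in powers of `D`. -/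
def hc : ℕ → ℕ → DU p
  | 0, k => if k = 0 then 1 else 0
  | j + 1, 0 => X 0 * dDU p (hc j 0)
  | j + 1, k + 1 => X 0 * (dDU p (hc j (k + 1)) + hc j k)

theorem hc_eq_zero : ∀ (j k : ℕ), j < k → hc p j k = 0
  | 0, 0, h => absurd h (lt_irrefl 0)
  | 0, k + 1, _ => by simp [hc]
  | j + 1, 0, h => absurd h (by omega)
  | j + 1, k + 1, h => by
      simp [hc, hc_eq_zero j (k + 1) (by omega), hc_eq_zero j k (by omega)]

theorem hc_self : ∀ j : ℕ, hc p j j = X 0 ^ j
  | 0 => by simp [hc]
  | j + 1 => by simp [hc, hc_eq_zero p j (j + 1) (by omega), hc_self j, pow_succ']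

section Model

variable {B : Type u} [CommRing B] [CharP B p]

/-- Evaluation at `b, δb, δ²b, …`. -/
def evU (δ : B → B) (b : B) : DU p →+* B := eval₂Hom (ZMod.castHom dvd_rfl B) fun n => δ^[n] b

theorem evU_dDU (δ : B → B) (hadd : ∀ x y, δ (x + y) = δ x + δ y)
    (hmul : ∀ x y, δ (x * y) = x * δ y + y * δ x) (b : B) (c : DU p) :
    evU p δ b (dDU p c) = δ (evU p δ b c) := by
  have h1 : δ 1 = 0 := by simpa using hmul 1 1
  let Δ : B →+ B := AddMonoidHom.mk' δ hadd
  induction c using MvPolynomial.induction_on with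
  | C a =>
    obtain ⟨n, rfl⟩ := ZMod.natCast_zmod_surjective a
    rw [show dDU p (C (n : ZMod p)) = 0 from derivation_C _ _, map_zero, evU, eval₂Hom_C, map_natCast]
    show 0 = Δ ((n : B))
    rw [← nsmul_one, map_nsmul]
    show 0 = n • δ 1
    rw [h1, smul_zero]
  | add x y hx hy => rw [map_add, map_add, map_add, hadd, hx, hy]
  | mul_X x n hx =>
    have hn : evU p δ b (dDU p (X n)) = δ (evU p δ b (X n)) := by
      rw [dDU, mkDerivation_X, evU, eval₂Hom_X', eval₂Hom_X']
      exact Function.iterate_succ_apply' δ n b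
    rw [Derivation.leibniz, map_add, smul_eq_mul, smul_eq_mul, map_mul, map_mul, hx, hn, map_mul, hmul]

variable {M : Type v} [AddCommGroup M] [Module B M]

theorem iterate_smul_eq (δ : B → B) (hadd : ∀ x y, δ (x + y) = δ x + δ y)
    (hmul : ∀ x y, δ (x * y) = x * δ y + y * δ x) (D : M → M) (hDadd : ∀ x y, D (x + y) = D x + D y)
    (hD : ∀ (c : B) m, D (c • m) = c • D m + δ c • m) (b : B) (j : ℕ) (m : M) :
    (fun x => b • D x)^[j] m = ∑ k ∈ Finset.range (j + 1), evU p δ b (hc p j k) • D^[k] m := by
  let Δ : M →+ M := AddMonoidHom.mk' D hDadd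
  induction j with
  | zero => simp [hc]
  | succ j ih =>
    rw [Function.iterate_succ_apply', ih]
    show b • Δ _ = _
    rw [map_sum]
    have hstep : ∀ k, Δ (evU p δ b (hc p j k) • D^[k] m) =
        evU p δ b (hc p j k) • D^[k + 1] m + evU p δ b (dDU p (hc p j k)) • D^[k] m := fun k => by
      show D _ = _
      rw [hD, evU_dDU p δ hadd hmul, Function.iterate_succ_apply']
    simp only [hstep, Finset.sum_add_distrib]
    have hb : evU p δ b (X 0) = b := by simp [evU]
    have h0 : evU p δ b (dDU p (hc p j (j + 1))) = 0 := by rw [hc_eq_zero p j (j + 1) (by omega), map_zero, map_zero]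
    rw [Finset.sum_range_succ' _ (j + 1)]
    simp only [hc, map_mul, map_add, hb, mul_smul, add_smul, smul_add, Finset.sum_add_distrib]
    rw [Finset.sum_range_succ' (fun k => evU p δ b (dDU p (hc p j k)) • D^[k] m) j]
    rw [Finset.sum_range_succ (fun k => b • evU p δ b (dDU p (hc p j (k + 1))) • D^[k + 1] m) j, h0, zero_smul,
      smul_zero, add_zero]
    simp only [smul_add, Finset.smul_sum]
    abel

end Model

theorem exists_derivation_iterate' {A : Type u} {B : Type v} [CommRing A] [CommRing B] [Algebra A B] [CharP B p]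
    (D : Derivation A B B) : ∃ E : Derivation A B B, ∀ x, E x = (⇑D)^[p] x := by
  obtain ⟨E₀, hE₀⟩ := H05EGA4.exists_derivation_iterate p (D.restrictScalars ℤ)
  have h : ∀ x, (D.toLinearMap ^ p) x = E₀ x := fun x => by
    rw [hE₀, Module.End.pow_apply]
    rfl
  exact ⟨Derivation.mk' (D.toLinearMap ^ p) fun x y => by rw [h, h, h, E₀.leibniz],
    fun x => Module.End.pow_apply _ p x⟩

/-- The middle coefficients vanish. -/
theorem hc_middle {k : ℕ} (hk : k ≠ 1) (hkp : k < p) : hc p p k = 0 := by
  classical
  let V := MvPolynomial (Option ℕ) (ZMod p)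
  let δ : Derivation (ZMod p) V V := mkDerivation (ZMod p) fun o => Option.elim o 1 fun n => X (some (n + 1))
  let β : V := X (some 0)
  obtain ⟨E, hE⟩ := exists_derivation_iterate' p (β • δ)
  have hδs : ∀ n, δ (X (some n)) = X (some (n + 1)) := fun n => mkDerivation_X _ _ _
  have hδt : δ (X none) = 1 := mkDerivation_X _ _ _
  have hev : ∀ c, evU p (⇑δ) β c = rename some c := by
    intro c
    have hit : ∀ n, (⇑δ)^[n] β = X (some n) := by
      intro n
      induction n with
      | zero => rfl
      | succ n ih => rw [Function.iterate_succ_apply', ih, hδs]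
    induction c using MvPolynomial.induction_on with
    | C a =>
      rw [evU, eval₂Hom_C, rename_C]
      exact congrArg (fun f : ZMod p →+* V => f a) (RingHom.ext_zmod (ZMod.castHom dvd_rfl V) C)
    | add x y hx hy => rw [map_add, map_add, hx, hy]
    | mul_X x n hx =>
      rw [map_mul, map_mul, hx, rename_X]
      congr 1
      simp [evU, hit]
  let t : V := X none
  have ht : ∀ n i, (⇑δ)^[i] (t ^ n) = (n.descFactorial i : V) * t ^ (n - i) := by
    intro n i
    induction i with
    | zero => simp
    | succ i ih =>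
      rw [Function.iterate_succ_apply', ih, Derivation.leibniz, Derivation.leibniz_pow, Nat.descFactorial_succ,
        Derivation.map_natCast]
      simp only [smul_eq_mul, mul_zero, add_zero, t, hδt, mul_one, nsmul_eq_mul, Nat.cast_mul]
      rw [Nat.sub_sub]
      ring
  let ev : V →ₐ[ZMod p] DU p := aeval fun o => Option.elim o 0 X
  have hevr : ∀ c, ev (rename some c) = c := fun c => by
    rw [aeval_rename]
    exact DFunLike.congr_fun (aeval_X_left (R := ZMod p) (σ := ℕ)) c
  have hevt : ev t = 0 := aeval_X _ none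
  have hkey : ∀ n, ev (E (t ^ n)) = ∑ i ∈ Finset.range (p + 1), hc p p i * ((n.descFactorial i : DU p) * 0 ^ (n - i)) := by
    intro n
    rw [hE]
    show ev ((fun x => β • δ x)^[p] (t ^ n)) = _
    rw [iterate_smul_eq (B := V) (M := V) p (⇑δ) (fun x y => map_add δ x y) (fun x y => by simp [Derivation.leibniz])
      (⇑δ) (fun x y => map_add δ x y) (fun c m => by simp [Derivation.leibniz]; ring) β p (t ^ n), map_sum]
    refine Finset.sum_congr rfl fun i _ => ?_
    rw [hev, smul_eq_mul, ht, map_mul, map_mul, map_natCast, map_pow, hevr, hevt]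
  have h0 : ev (E (t ^ k)) = 0 := by
    rw [Derivation.leibniz_pow]
    rcases k with _ | _ | k
    · simp
    · exact absurd rfl hk
    · rw [map_nsmul, smul_eq_mul, map_mul, map_pow, hevt]
      simp
  rw [hkey, Finset.sum_eq_single k] at h0
  · rw [Nat.sub_self, pow_zero, mul_one, Nat.descFactorial_self, ← C_eq_coe_nat, mul_eq_zero, C_eq_zero,
      ZMod.natCast_eq_zero_iff] at h0
    exact h0.resolve_right fun h => by have := (hp.out.dvd_factorial).mp h; omega
  · intro i _ hi
    rcases lt_or_gt_of_ne hi with h | h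
    · rw [zero_pow (by omega), mul_zero, mul_zero]
    · rw [Nat.descFactorial_eq_zero_iff_lt.mpr h, Nat.cast_zero, zero_mul, mul_zero]
  · intro h
    exact absurd (Finset.mem_range.mpr (by omega)) h

theorem iterate_smul_prime {B : Type u} [CommRing B] [CharP B p] {M : Type v} [AddCommGroup M] [Module B M]
    (δ : B → B) (hadd : ∀ x y, δ (x + y) = δ x + δ y) (hmul : ∀ x y, δ (x * y) = x * δ y + y * δ x)
    (D : M → M) (hDadd : ∀ x y, D (x + y) = D x + D y)
    (hD : ∀ (c : B) m, D (c • m) = c • D m + δ c • m) (b : B) (m : M) :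
    (fun x => b • D x)^[p] m = b ^ p • D^[p] m + evU p δ b (hc p p 1) • D m := by
  rw [iterate_smul_eq p δ hadd hmul D hDadd hD, Finset.sum_range_succ, hc_self,
    Finset.sum_eq_single 1 (fun i hi hi1 => by rw [hc_middle p hi1 (Finset.mem_range.mp hi), map_zero, zero_smul])
      (fun h => absurd (Finset.mem_range.mpr hp.out.one_lt) h), add_comm, map_pow]
  simp [evU]

end Groth.Agent.H27Conn
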