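import Groth.Agent.H27Conn.LogLayer

/-! # Flat logarithmic lambda-connections: layers are preserved and independent of coordinates -/

set_option autoImplicit false
set_option linter.unusedSectionVars false

noncomputable section

open TensorProduct LogConn Groth.Agent.H27Conn.LogPiece Groth.Agent.H27Conn.LogLayer

universe v u

namespace Groth.Agent.H27Conn.LogFlat

variable {A : Type v} {B L E : Type u} [CommRing A] [CommRing B] [Algebra A B]
  [AddCommGroup L] [Module B L] [Module A L] [IsScalarTower A B L]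
  [AddCommGroup E] [Module B E] [Module A E] [IsScalarTower A B E]
  {lam : B} {n : ℕ} {t : Fin n → B} (bΩ : Module.Basis (Fin n) B (KaehlerDifferential A B))
  (ω : Module.Basis (Fin n) B L) {ι : KaehlerDifferential A B →ₗ[B] L}
  {nabla : E →ₗ[A] E ⊗[B] L}

/-- The components commute. -/
def Comm (nabla : E →ₗ[A] E ⊗[B] L) (ω : Module.Basis (Fin n) B L) : Prop :=
  ∀ i j x, comp nabla ω i (comp nabla ω j x) = comp nabla ω j (comp nabla ω i x)

theorem sum_contr (z : E ⊗[B] L) : ∑ j, contr E (ω.coord j) z ⊗ₜ[B] ω j = z := by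
  induction z using TensorProduct.induction_on with
  | zero => simp
  | tmul y w =>
    simp only [contr_tmul, TensorProduct.smul_tmul, ← TensorProduct.tmul_sum]
    exact congrArg _ (ω.sum_repr w)
  | add x y hx hy => simp only [map_add, TensorProduct.add_tmul, Finset.sum_add_distrib, hx, hy]

theorem nabla_eq_sum (x : E) : nabla x = ∑ j, comp nabla ω j x ⊗ₜ[B] ω j := (sum_contr ω (nabla x)).symm

theorem oneEquiv_symm (w : L) :
    (exteriorPower.oneEquiv B L).symm w = exteriorPower.ιMulti B 1 fun _ => w := by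
  rw [LinearEquiv.symm_apply_eq, exteriorPower.oneEquiv_ιMulti]

theorem twedge_toOne {p : ℕ} (y : E) (w : L) (v : Fin p → L) :
    Conn.twedge p (Conn.toOne (y ⊗ₜ[B] w)) (exteriorPower.ιMulti B p v) =
      y ⊗ₜ[B] exteriorPower.ιMulti B (p + 1) (Fin.cons w v : Fin (p + 1) → L) := by
  rw [Conn.toOne_tmul, Conn.twedge_tmul]
  congr 1
  refine Subtype.ext ?_
  rw [Conn.wedge_apply_coe, oneEquiv_symm, exteriorPower.ιMulti_apply_coe,
    exteriorPower.ιMulti_apply_coe, exteriorPower.ιMulti_apply_coe, ExteriorAlgebra.ιMulti_succ_apply,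
    ExteriorAlgebra.ιMulti_succ_apply (Fin.cons w v : Fin (p + 1) → L), ExteriorAlgebra.ιMulti_zero_apply, mul_one]
  rfl

theorem nablas_tmul {d : ∀ p : ℕ, ↥(⋀[B]^p L) →ₗ[A] ↥(⋀[B]^(p + 1) L)}
    {nablas : ∀ p : ℕ, E ⊗[B] ↥(⋀[B]^p L) →ₗ[A] E ⊗[B] ↥(⋀[B]^(p + 1) L)}
    (hrule : Conn.IsCxRule nabla (fun p => lam • d p) nablas) {p : ℕ} (y : E) (v : Fin p → L)
    (hv : d p (exteriorPower.ιMulti B p v) = 0) :
    nablas p (y ⊗ₜ[B] exteriorPower.ιMulti B p v) =
      ∑ j, comp nabla ω j y ⊗ₜ[B] exteriorPower.ιMulti B (p + 1) (Fin.cons (ω j) v : Fin (p + 1) → L) := by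
  rw [hrule, LinearMap.smul_apply, hv, smul_zero, TensorProduct.tmul_zero, add_zero, nabla_eq_sum ω y,
    map_sum, map_sum, LinearMap.sum_apply]
  exact Finset.sum_congr rfl fun j _ => twedge_toOne _ _ _

theorem comm_of_integrable {d : ∀ p : ℕ, ↥(⋀[B]^p L) →ₗ[A] ↥(⋀[B]^(p + 1) L)}
    {nablas : ∀ p : ℕ, E ⊗[B] ↥(⋀[B]^p L) →ₗ[A] E ⊗[B] ↥(⋀[B]^(p + 1) L)}
    (hint : Conn.IsIntegrable nabla (fun p => lam • d p) nablas)
    (hd1 : ∀ i, d 1 (exteriorPower.ιMulti B 1 fun _ => ω i) = 0) : Comm nabla ω := by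
  intro a b x
  have h := hint.2 x
  rw [nabla_eq_sum ω x, map_sum, map_sum] at h
  simp only [Conn.toOne_tmul, oneEquiv_symm] at h
  simp only [nablas_tmul ω hint.1 _ _ (hd1 _)] at h
  let φ : ↥(⋀[B]^2 L) →ₗ[B] B :=
    exteriorPower.pairingDual B L 2 (exteriorPower.ιMulti B 2 ![ω.coord a, ω.coord b])
  have h2 := congrArg (contr E φ) h
  simp only [map_sum, map_zero, contr_tmul] at h2
  simp only [φ, exteriorPower.pairingDual_ιMulti_ιMulti, Matrix.det_fin_two, Matrix.of_apply,
    Matrix.cons_val_zero, Matrix.cons_val_one, Fin.cons_zero,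
    show ∀ (w w' : L), (Fin.cons w (fun _ => w') : Fin 2 → L) 1 = w' from fun _ _ => rfl,
    Module.Basis.coord_apply, Module.Basis.repr_self, Finsupp.single_apply, mul_ite, ite_mul, mul_one,
    one_mul, mul_zero, zero_mul, sub_smul, ite_smul, one_smul, zero_smul,
    Finset.sum_sub_distrib, Finset.sum_ite_eq', Finset.mem_univ, if_true] at h2
  simp only [Finset.sum_ite_irrel, Finset.sum_const_zero, Finset.sum_ite_eq', Finset.mem_univ, if_true,
    sub_eq_zero] at h2
  exact h2

theorem compProd_insert' (hC : Comm nabla ω) (a : Fin n) (K : Finset (Fin n)) (ha : a ∉ K) (x : E) :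
    compProd nabla ω (insert a K) x = comp nabla ω a (compProd nabla ω K x) := by
  have hperm : ((insert a K).sort (· ≤ ·)).Perm (a :: K.sort (· ≤ ·)) := by
    refine (List.perm_ext_iff_of_nodup (Finset.sort_nodup _ _) ?_).mpr fun b => by simp
    exact List.nodup_cons.mpr ⟨by simpa using ha, Finset.sort_nodup _ _⟩
  have hLC : LeftCommutative fun i (φ : E →ₗ[A] E) => comp nabla ω i ∘ₗ φ :=
    ⟨fun i j φ => LinearMap.ext fun y => hC i j (φ y)⟩
  rw [compProd, List.Perm.foldr_eq hperm]
  rfl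

theorem comp_compProd (hC : Comm nabla ω) (j : Fin n) (K : Finset (Fin n)) (x : E) :
    comp nabla ω j (compProd nabla ω K x) = compProd nabla ω K (comp nabla ω j x) := by
  induction K using Finset.induction_on with
  | empty => simp [compProd_empty]
  | insert a K ha ih => rw [compProd_insert' ω hC a K ha, compProd_insert' ω hC a K ha, hC, ih]

theorem compProd_union (hC : Comm nabla ω) (J K : Finset (Fin n)) (h : Disjoint J K) (x : E) :
    compProd nabla ω (J ∪ K) x = compProd nabla ω J (compProd nabla ω K x) := by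
  induction J using Finset.induction_on with
  | empty => simp [compProd_empty]
  | insert a J ha ih =>
    rw [Finset.disjoint_insert_left] at h
    rw [Finset.insert_union, compProd_insert' ω hC a _ (by simp [ha, h.1]), ih h.2,
      compProd_insert' ω hC a J ha]

theorem sdiff_smul_mem (hC : Comm nabla ω) (I K : Finset (Fin n)) {y : E} (hy : y ∈ bpiece nabla ω t I) :
    (∏ i ∈ K \ I, t i) • y ∈ bpiece nabla ω t K := by
  induction hy using Submodule.span_induction with
  | mem z hz =>
    obtain ⟨J, hJ, e, -, rfl⟩ := Set.mem_iUnion₂.mp hz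
    have hJ' := Finset.mem_powerset.mp hJ
    have hsub : K \ (J ∩ K) ⊆ (K \ I) ∪ (I \ J) := by
      intro r hr
      simp only [Finset.mem_sdiff, Finset.mem_inter, not_and] at hr
      simp only [Finset.mem_union, Finset.mem_sdiff]
      by_cases hrI : r ∈ I
      · exact Or.inr ⟨hrI, fun h => hr.2 h hr.1⟩
      · exact Or.inl ⟨hr.1, hrI⟩
    rw [smul_smul, ← Finset.prod_union (Finset.disjoint_left.mpr fun x hx hx' =>
      (Finset.mem_sdiff.mp hx).2 (Finset.mem_sdiff.mp hx').1), ← Finset.prod_sdiff hsub, mul_smul,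
      show compProd nabla ω J e = compProd nabla ω (J ∩ K) (compProd nabla ω (J \ K) e) by
        rw [← compProd_union ω hC _ _ (by rw [Finset.disjoint_left]; intro r; simp; tauto),
          Finset.union_comm, Finset.sdiff_union_inter]]
    exact Submodule.smul_mem _ _ (mem_gspan ω Finset.inter_subset_right (Set.mem_univ _))
  | zero => rw [smul_zero]; exact zero_mem _
  | add a b _ _ ha hb => rw [smul_add]; exact add_mem ha hb
  | smul c a _ ha => rw [smul_comm]; exact Submodule.smul_mem _ _ ha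

theorem comp_mem_bpiece (hbΩ : ∀ i, bΩ i = KaehlerDifferential.D A B (t i))
    (hι : ∀ i, ι (KaehlerDifferential.D A B (t i)) = t i • ω i)
    (hc : Conn.IsLamConn (ι.compDer (KaehlerDifferential.D A B)) lam nabla) (hC : Comm nabla ω)
    (a : Fin n) (I : Finset (Fin n)) {y : E} (hy : y ∈ bpiece nabla ω t I) :
    comp nabla ω a y ∈ bpiece nabla ω t I ∧ comp nabla ω a y ∈ bpiece nabla ω t (insert a I) := by
  by_cases ha : a ∈ I
  · rw [Finset.insert_eq_of_mem ha, and_self]
    induction hy using Submodule.span_induction with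
    | mem z hz =>
      obtain ⟨J, hJ, e, -, rfl⟩ := Set.mem_iUnion₂.mp hz
      have hJ' := Finset.mem_powerset.mp hJ
      have hgen := fun e' : E => mem_gspan (nabla := nabla) (t := t) ω hJ' (Set.mem_univ e')
      rw [comp_smul bΩ ω hbΩ hι hc, comp_compProd ω hC]
      refine add_mem (hgen _) ?_
      by_cases haJ : a ∈ I \ J
      · rw [← Finset.mul_prod_erase _ _ haJ,
          show pd bΩ a (t a * ∏ x ∈ (I \ J).erase a, t x) = ∏ x ∈ (I \ J).erase a, t x by
            have h1 := pd_t bΩ hbΩ a a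
            have h2 := pd_prod_eq_zero bΩ hbΩ a ((I \ J).erase a) (Finset.notMem_erase a _)
            simp only [pd] at h1 h2 ⊢
            rw [Derivation.leibniz, map_add, map_smul, map_smul, h1, h2]; simp,
          Finset.mul_prod_erase _ _ haJ, mul_smul]
        exact Submodule.smul_mem _ _ (hgen _)
      · rw [pd_prod_eq_zero bΩ hbΩ a _ haJ, mul_zero, mul_zero, zero_smul]
        exact zero_mem _
    | zero => rw [map_zero]; exact zero_mem _
    | add x y _ _ hx hy => rw [map_add]; exact add_mem hx hy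
    | smul c y hy ih =>
      rw [comp_smul bΩ ω hbΩ hι hc]
      exact add_mem (Submodule.smul_mem _ _ ih) (Submodule.smul_mem _ _ hy)
  · induction hy using Submodule.span_induction with
    | mem z hz =>
      obtain ⟨J, hJ, e, -, rfl⟩ := Set.mem_iUnion₂.mp hz
      have hJ' := Finset.mem_powerset.mp hJ
      rw [comp_smul bΩ ω hbΩ hι hc, pd_prod_eq_zero bΩ hbΩ a _ (fun h => ha (Finset.mem_sdiff.mp h).1),
        mul_zero, mul_zero, zero_smul, add_zero]
      constructor
      · rw [comp_compProd ω hC]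
        exact mem_gspan ω hJ' (Set.mem_univ _)
      · rw [← compProd_insert' ω hC a J (fun h => ha (hJ' h)),
          show I \ J = insert a I \ insert a J by
            ext r; simp only [Finset.mem_sdiff, Finset.mem_insert]
            exact ⟨fun h => ⟨Or.inr h.1, fun h' => h'.elim (fun e => ha (e ▸ h.1)) h.2⟩,
              fun h => ⟨h.1.resolve_left fun e => h.2 (Or.inl e), fun h' => h.2 (Or.inr h')⟩⟩]
        exact mem_gspan ω (Finset.insert_subset_insert a hJ') (Set.mem_univ _)
    | zero => rw [map_zero]; exact ⟨zero_mem _, zero_mem _⟩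
    | add x y _ _ hx hy => rw [map_add]; exact ⟨add_mem hx.1 hy.1, add_mem hx.2 hy.2⟩
    | smul c y hy ih =>
      rw [comp_smul bΩ ω hbΩ hι hc]
      refine ⟨add_mem (Submodule.smul_mem _ _ ih.1) (Submodule.smul_mem _ _ hy),
        add_mem (Submodule.smul_mem _ _ ih.2) ?_⟩
      rw [show (lam * (t a * pd bΩ a c)) • y =
        (lam * pd bΩ a c) • ((∏ i ∈ insert a I \ I, t i) • y) by
          rw [Finset.insert_sdiff_of_notMem _ ha, sdiff_self, Finset.bot_eq_empty, insert_empty_eq,
            Finset.prod_singleton, smul_smul]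
          congr 1; ring]
      exact Submodule.smul_mem _ _ (smul_mem_gspan ω (Finset.subset_insert a I) hy)

theorem tmul_mem_blayer (hC : Comm nabla ω) {p : ℕ} {I : Finset (Fin n)} {y : E}
    (hy : y ∈ bpiece nabla ω t I) (v : Fin p → L) (hv : ∀ r, r ∉ I → ∀ k, t r ∣ ω.coord r (v k)) :
    y ⊗ₜ[B] exteriorPower.ιMulti B p v ∈ blayer nabla ω t p := by
  refine (mem_blayer ω).mpr fun K => ?_
  rw [coordE_ιMulti]
  obtain ⟨c, hc'⟩ := dvd_det (t := t) ω K I v hv
  rw [hc', mul_comm, mul_smul]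
  exact Submodule.smul_mem _ c (sdiff_smul_mem ω hC I K hy)

theorem nablas_mem (hbΩ : ∀ i, bΩ i = KaehlerDifferential.D A B (t i))
    (hι : ∀ i, ι (KaehlerDifferential.D A B (t i)) = t i • ω i)
    (hc : Conn.IsLamConn (ι.compDer (KaehlerDifferential.D A B)) lam nabla)
    {d : ∀ p : ℕ, ↥(⋀[B]^p L) →ₗ[A] ↥(⋀[B]^(p + 1) L)}
    {nablas : ∀ p : ℕ, E ⊗[B] ↥(⋀[B]^p L) →ₗ[A] E ⊗[B] ↥(⋀[B]^(p + 1) L)}
    (hint : Conn.IsIntegrable nabla (fun p => lam • d p) nablas)
    (hd : ∀ (p : ℕ) (f : Fin p → Fin n), d p (exteriorPower.ιMulti B p (⇑ω ∘ f)) = 0)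
    (p : ℕ) {x : E ⊗[B] ↥(⋀[B]^p L)} (hx : x ∈ layer nabla ω t p) :
    nablas p x ∈ layer nabla ω t (p + 1) := by
  have hC : Comm nabla ω := comm_of_integrable ω hint fun i => hd 1 fun _ => i
  rw [layer_eq bΩ ω hbΩ hι hc, Submodule.restrictScalars_mem] at hx ⊢
  rw [← sum_coordE ω x, map_sum]
  refine Submodule.sum_mem _ fun K _ => ?_
  rw [exteriorPower.basis_apply, exteriorPower.ιMulti_family, nablas_tmul ω hint.1 _ _ (hd p _)]
  refine Submodule.sum_mem _ fun j _ => ?_
  refine tmul_mem_blayer ω hC (comp_mem_bpiece bΩ ω hbΩ hι hc hC j _ ((mem_blayer ω).mp hx K)).2 _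
    fun r hr k => ?_
  rw [Finset.mem_insert, not_or] at hr
  refine Fin.cases ?_ (fun l => ?_) k
  · rw [Fin.cons_zero, Module.Basis.coord_apply, Module.Basis.repr_self, Finsupp.single_apply,
      if_neg (fun h => hr.1 h.symm)]
    exact dvd_zero _
  · rw [Fin.cons_succ, Function.comp_apply, Module.Basis.coord_apply, Module.Basis.repr_self,
      Finsupp.single_apply, if_neg fun h => hr.2 ?_]
    · exact dvd_zero _
    · rw [← h, Set.powersetCard.ofFinEmbEquiv_symm_apply]
      exact Finset.orderEmbOfFin_mem _ _ _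

theorem blayer_le {t' : Fin n → B} (bΩ' : Module.Basis (Fin n) B (KaehlerDifferential A B))
    (ω' : Module.Basis (Fin n) B L)
    (hbΩ : ∀ i, bΩ i = KaehlerDifferential.D A B (t i))
    (hι : ∀ i, ι (KaehlerDifferential.D A B (t i)) = t i • ω i)
    (hbΩ' : ∀ i, bΩ' i = KaehlerDifferential.D A B (t' i))
    (hι' : ∀ i, ι (KaehlerDifferential.D A B (t' i)) = t' i • ω' i)
    (hc : Conn.IsLamConn (ι.compDer (KaehlerDifferential.D A B)) lam nabla) (hC : Comm nabla ω)
    (hdiff : ∀ i, ω i - ω' i ∈ LinearMap.range ι) (hdvd : ∀ i, t i ∣ t' i) (p : ℕ) :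
    blayer nabla ω' t' p ≤ blayer nabla ω t p := by
  have hcomp : ∀ (i : Fin n) (e : E), ∃ c : Fin n → B,
      comp nabla ω' i e = comp nabla ω i e + ∑ j, (t i * c j) • comp nabla ω j e := by
    intro i e
    choose η hη using hdiff
    choose q hq using hdvd
    refine ⟨fun j => q i * bΩ'.coord i (η j), ?_⟩
    have h1 : ∀ j, ω'.coord i (ω j) = (if j = i then 1 else 0) + t i * (q i * bΩ'.coord i (η j)) := fun j => by
      rw [show ω j = ω' j + ι (η j) by rw [hη]; abel, map_add, coord_iota bΩ' ω' hbΩ' hι',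
        Module.Basis.coord_apply, Module.Basis.repr_self, Finsupp.single_apply, hq, mul_assoc]
    conv_lhs => rw [comp, along_eq, nabla_eq_sum ω e, map_sum]
    simp only [contr_tmul, h1, add_smul, ite_smul, one_smul, zero_smul, Finset.sum_add_distrib,
      Finset.sum_ite_eq', Finset.mem_univ, if_true]
  have hpiece : ∀ (I : Finset (Fin n)) (e : E), compProd nabla ω' I e ∈ bpiece nabla ω t I := by
    intro I
    induction I using Finset.induction_on_min with
    | empty =>
      intro e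
      simpa [compProd_empty] using mem_gspan (nabla := nabla) (t := t) ω (Finset.Subset.refl ∅) (Set.mem_univ e)
    | insert a I hI ih =>
      intro e
      have haI : a ∉ I := fun h => lt_irrefl a (hI a h)
      obtain ⟨c, hc'⟩ := hcomp a (compProd nabla ω' I e)
      rw [compProd_insert ω' a I hI, hc']
      refine add_mem (comp_mem_bpiece bΩ ω hbΩ hι hc hC a I (ih e)).2 (Submodule.sum_mem _ fun j _ => ?_)
      rw [mul_comm, mul_smul]
      refine Submodule.smul_mem _ _ ?_
      have := smul_mem_gspan (t := t) ω (Finset.subset_insert a I)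
        (comp_mem_bpiece bΩ ω hbΩ hι hc hC j I (ih e)).1
      rwa [Finset.insert_sdiff_of_notMem _ haI, sdiff_self, Finset.bot_eq_empty, insert_empty_eq,
        Finset.prod_singleton] at this
  rw [← span_gens_eq bΩ' ω' hbΩ' hι' p]
  refine Submodule.span_le.mpr ?_
  rintro _ ⟨I, hI, e, v, hv1, hv2, rfl⟩
  refine tmul_mem_blayer ω hC (hpiece I e) v fun r hr k => ?_
  by_cases hk : k.val < I.card
  · have hmem := Finset.orderEmbOfFin_mem I rfl ⟨k, hk⟩
    rw [hv1 k hk]
    have hne : r ≠ I.orderEmbOfFin rfl ⟨k, hk⟩ := fun h => hr (h.symm ▸ hmem)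
    rw [show ω' (I.orderEmbOfFin rfl ⟨k, hk⟩) = ω (I.orderEmbOfFin rfl ⟨k, hk⟩) -
        (ω (I.orderEmbOfFin rfl ⟨k, hk⟩) - ω' (I.orderEmbOfFin rfl ⟨k, hk⟩)) by abel, map_sub]
    refine dvd_sub ?_ (coord_iota_dvd bΩ ω hbΩ hι (hdiff _) r)
    rw [Module.Basis.coord_apply, Module.Basis.repr_self, Finsupp.single_apply, if_neg hne.symm]
    exact dvd_zero _
  · exact coord_iota_dvd bΩ ω hbΩ hι (hv2 k (not_lt.mp hk)) r

end Groth.Agent.H27Conn.LogFlat
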