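import Groth.Agent.H27Conn.LogPiece
import Groth.Prelude.Def_LogDiff

/-! # Layers of a logarithmic lambda-connection -/

set_option autoImplicit false
set_option linter.unusedSectionVars false

noncomputable section

open TensorProduct LogConn Groth.Agent.H27Conn.LogPiece

universe v u

namespace Groth.Agent.H27Conn.LogLayer

variable {A : Type v} {B L E : Type u} [CommRing A] [CommRing B] [Algebra A B]
  [AddCommGroup L] [Module B L] [Module A L] [IsScalarTower A B L]
  [AddCommGroup E] [Module B E] [Module A E] [IsScalarTower A B E]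
  {lam : B} {n : ℕ} {t : Fin n → B} (bΩ : Module.Basis (Fin n) B (KaehlerDifferential A B))
  (ω : Module.Basis (Fin n) B L) {ι : KaehlerDifferential A B →ₗ[B] L}
  {nabla : E →ₗ[A] E ⊗[B] L}

/-- The piece as a `B`-submodule. -/
abbrev bpiece (nabla : E →ₗ[A] E ⊗[B] L) (ω : Module.Basis (Fin n) B L) (t : Fin n → B)
    (I : Finset (Fin n)) : Submodule B E :=
  gspan nabla ω t Set.univ I

/-- The layer as a `B`-submodule. -/
def blayer (nabla : E →ₗ[A] E ⊗[B] L) (ω : Module.Basis (Fin n) B L) (t : Fin n → B) (p : ℕ) :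
    Submodule B (E ⊗[B] ↥(⋀[B]^p L)) :=
  ⨅ K : Set.powersetCard (Fin n) p, (bpiece nabla ω t (K : Finset (Fin n))).comap (coordE (E := E) ω p K)

theorem mem_blayer {p : ℕ} {x : E ⊗[B] ↥(⋀[B]^p L)} :
    x ∈ blayer nabla ω t p ↔
      ∀ K : Set.powersetCard (Fin n) p, coordE ω p K x ∈ bpiece nabla ω t (K : Finset (Fin n)) := by
  simp [blayer, Submodule.mem_iInf]

theorem layer_eq (hbΩ : ∀ i, bΩ i = KaehlerDifferential.D A B (t i))
    (hι : ∀ i, ι (KaehlerDifferential.D A B (t i)) = t i • ω i)
    (hc : Conn.IsLamConn (ι.compDer (KaehlerDifferential.D A B)) lam nabla) (p : ℕ) :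
    layer nabla ω t p = (blayer nabla ω t p).restrictScalars A := by
  ext x
  simp [layer, Submodule.mem_iInf, mem_blayer,
    piece_eq_gspan bΩ ω hbΩ hι hc (Submodule.span_univ (R := B) (M := E))]

theorem coordE_tmul {p : ℕ} (K : Set.powersetCard (Fin n) p) (y : E) (w : ↥(⋀[B]^p L)) :
    coordE ω p K (y ⊗ₜ[B] w) = (ω.exteriorPower p).coord K w • y := by
  simp [coordE]

theorem coordE_ιMulti {p : ℕ} (K : Set.powersetCard (Fin n) p) (y : E) (v : Fin p → L) :
    coordE ω p K (y ⊗ₜ[B] exteriorPower.ιMulti B p v) =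
      (Matrix.of fun i j => ω.coord (Set.powersetCard.ofFinEmbEquiv.symm K j) (v i)).det • y := by
  rw [coordE_tmul, exteriorPower.basis_coord, exteriorPower.ιMultiDual_apply_ιMulti]

theorem sum_coordE {p : ℕ} (x : E ⊗[B] ↥(⋀[B]^p L)) :
    ∑ K : Set.powersetCard (Fin n) p, coordE ω p K x ⊗ₜ[B] (ω.exteriorPower p K) = x := by
  induction x using TensorProduct.induction_on with
  | zero => simp
  | tmul y w =>
    simp only [coordE_tmul, TensorProduct.smul_tmul, ← TensorProduct.tmul_sum]
    exact congrArg _ ((ω.exteriorPower p).sum_repr w)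
  | add x y hx hy => simp only [map_add, TensorProduct.add_tmul, Finset.sum_add_distrib, hx, hy]

theorem prod_eK {p : ℕ} (K : Set.powersetCard (Fin n) p) (g : Fin n → B) :
    ∏ k : Fin p, g (Set.powersetCard.ofFinEmbEquiv.symm K k) = ∏ r ∈ (K : Finset (Fin n)), g r := by
  conv_rhs => rw [← Finset.map_orderEmbOfFin_univ (K : Finset (Fin n)) K.prop, Finset.prod_map]
  rfl

theorem dvd_det {p : ℕ} (K : Set.powersetCard (Fin n) p) (I : Finset (Fin n)) (v : Fin p → L)
    (h : ∀ r, r ∉ I → ∀ k, t r ∣ ω.coord r (v k)) :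
    (∏ r ∈ (K : Finset (Fin n)) \ I, t r) ∣
      (Matrix.of fun i j => ω.coord (Set.powersetCard.ofFinEmbEquiv.symm K j) (v i)).det := by
  let g : Fin n → B := fun r => if r ∈ I then 1 else t r
  have h' : ∀ r k, g r ∣ ω.coord r (v k) := fun r k => by
    by_cases hr : r ∈ I
    · simp [g, hr]
    · simpa [g, hr] using h r hr k
  choose c hc using h'
  have hp : ∏ r ∈ (K : Finset (Fin n)) \ I, t r =
      ∏ k : Fin p, g (Set.powersetCard.ofFinEmbEquiv.symm K k) := by
    rw [prod_eK K g, Finset.prod_ite, Finset.prod_const_one, one_mul]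
    refine Finset.prod_congr ?_ fun _ _ => rfl
    ext r; simp
  refine ⟨(Matrix.of fun i j => c (Set.powersetCard.ofFinEmbEquiv.symm K j) i).det, ?_⟩
  rw [hp, ← Matrix.det_mul_row]
  congr 1
  ext i j
  exact hc _ _

theorem coord_iota_dvd (hbΩ : ∀ i, bΩ i = KaehlerDifferential.D A B (t i))
    (hι : ∀ i, ι (KaehlerDifferential.D A B (t i)) = t i • ω i) {w : L} (hw : w ∈ LinearMap.range ι)
    (r : Fin n) : t r ∣ ω.coord r w := by
  obtain ⟨η, rfl⟩ := hw
  exact ⟨_, coord_iota bΩ ω hbΩ hι η r⟩

theorem span_gens_eq (hbΩ : ∀ i, bΩ i = KaehlerDifferential.D A B (t i))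
    (hι : ∀ i, ι (KaehlerDifferential.D A B (t i)) = t i • ω i) (p : ℕ) :
    Submodule.span B (gens nabla ω ι p) = blayer nabla ω t p := by
  refine le_antisymm (Submodule.span_le.mpr ?_) fun x hx => ?_
  · rintro _ ⟨I, hI, e, v, hv1, hv2, rfl⟩
    refine (mem_blayer ω).mpr fun K => ?_
    rw [coordE_ιMulti]
    by_cases hIK : I ⊆ (K : Finset (Fin n))
    · obtain ⟨c, hc'⟩ := dvd_det (t := t) ω K I v fun r hr k => by
        by_cases hk : k.val < I.card
        · rw [hv1 k hk, Module.Basis.coord_apply, Module.Basis.repr_self, Finsupp.single_apply]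
          split_ifs with h
          · exact absurd (h ▸ Finset.orderEmbOfFin_mem I rfl _) hr
          · exact dvd_zero _
        · exact coord_iota_dvd bΩ ω hbΩ hι (hv2 k (not_lt.mp hk)) r
      rw [hc', mul_comm, mul_smul]
      refine Submodule.smul_mem _ c (smul_mem_gspan ω hIK ?_)
      simpa using mem_gspan (nabla := nabla) (t := t) ω (Finset.Subset.refl I) (Set.mem_univ e)
    · obtain ⟨i, hi, hiK⟩ := Finset.not_subset.mp hIK
      obtain ⟨k, hk⟩ : i ∈ Set.range (I.orderEmbOfFin rfl) := by rw [Finset.range_orderEmbOfFin]; exact hi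
      rw [Matrix.det_eq_zero_of_row_eq_zero ⟨k, k.isLt.trans_le hI⟩ fun j => ?_, zero_smul]
      · exact zero_mem _
      · rw [Matrix.of_apply, hv1 ⟨k, k.isLt.trans_le hI⟩ k.isLt, Module.Basis.coord_apply,
          Module.Basis.repr_self]
        refine Finsupp.single_eq_of_ne fun h => hiK ?_
        rw [← hk, show k = ⟨k.val, k.isLt⟩ from rfl, ← h]
        exact Finset.orderEmbOfFin_mem _ _ _
  · rw [← sum_coordE ω x]
    refine Submodule.sum_mem _ fun K _ => ?_
    have key : bpiece nabla ω t (K : Finset (Fin n)) ≤ (Submodule.span B (gens nabla ω ι p)).comap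
        ((TensorProduct.mk B E _).flip (ω.exteriorPower p K)) := by
      refine Submodule.span_le.mpr ?_
      intro z hz
      obtain ⟨J, hJ, e, -, rfl⟩ := Set.mem_iUnion₂.mp hz
      have hJK := Finset.mem_powerset.mp hJ
      have hcard : ((K : Finset (Fin n)) \ J).card + J.card = p := by
        rw [Finset.card_sdiff_add_card_eq_card hJK]; exact K.prop
      let f : Fin p → Fin n := fun k => if hk : k.val < J.card then J.orderEmbOfFin rfl ⟨k, hk⟩
        else ((K : Finset (Fin n)) \ J).orderEmbOfFin rfl ⟨k - J.card, by omega⟩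
      have hfJ : ∀ k : Fin p, f k ∈ J ↔ k.val < J.card := fun k => by
        by_cases hk : k.val < J.card
        · simp [f, hk]
        · simp only [f, dif_neg hk, hk, iff_false]
          exact (Finset.mem_sdiff.mp (Finset.orderEmbOfFin_mem _ _ _)).2
      have hfK : ∀ k, f k ∈ (K : Finset (Fin n)) := fun k => by
        by_cases hk : k.val < J.card
        · simp only [f, dif_pos hk]; exact hJK (Finset.orderEmbOfFin_mem _ _ _)
        · simp only [f, dif_neg hk]
          exact (Finset.mem_sdiff.mp (Finset.orderEmbOfFin_mem _ _ _)).1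
      have hfinj : Function.Injective f := fun k l h => by
        have hkl : k.val < J.card ↔ l.val < J.card := by rw [← hfJ, ← hfJ, h]
        by_cases hk : k.val < J.card
        · simp only [f, dif_pos hk, dif_pos (hkl.mp hk)] at h
          have := congrArg Fin.val ((J.orderEmbOfFin rfl).injective h)
          exact Fin.ext this
        · simp only [f, dif_neg hk, dif_neg (mt hkl.mpr hk)] at h
          have := congrArg Fin.val ((((K : Finset (Fin n)) \ J).orderEmbOfFin rfl).injective h)
          have hl := mt hkl.mpr hk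
          simp only at this
          exact Fin.ext (by omega)
      let eK := Set.powersetCard.ofFinEmbEquiv.symm K
      have hex : ∀ k, ∃ l, eK l = f k := fun k =>
        (Set.powersetCard.mem_range_ofFinEmbEquiv_symm_iff_mem K (f k)).mpr (hfK k)
      choose σ hσ using hex
      have hσinj : Function.Injective σ := fun k l h => hfinj (by rw [← hσ, ← hσ, h])
      let π : Equiv.Perm (Fin p) := Equiv.ofBijective σ ⟨hσinj, Finite.surjective_of_injective hσinj⟩
      let g : Fin n → B := fun r => if r ∈ J then 1 else t r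
      let v : Fin p → L := fun k => g (f k) • ω (f k)
      have hmem : compProd nabla ω J e ⊗ₜ[B] exteriorPower.ιMulti B p v ∈ gens nabla ω ι p := by
        refine ⟨J, by omega, e, v, fun k hk => ?_, fun k hk => ?_, rfl⟩
        · simp only [v, g, if_pos ((hfJ k).mpr hk), one_smul]
          simp [f, hk]
        · simp only [v, g, if_neg (fun h => absurd ((hfJ k).mp h) (not_lt.mpr hk))]
          exact ⟨_, hι (f k)⟩
      have hprod : ∏ k : Fin p, g (f k) = ∏ r ∈ (K : Finset (Fin n)) \ J, t r := by
        simp only [← hσ]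
        rw [show ∏ k : Fin p, g (eK (σ k)) = ∏ k : Fin p, g (eK k) from Equiv.prod_comp π fun k => g (eK k),
          prod_eK K g, Finset.prod_ite, Finset.prod_const_one, one_mul]
        refine Finset.prod_congr ?_ fun _ _ => rfl
        ext r; simp
      have hval : exteriorPower.ιMulti B p v =
          Equiv.Perm.sign π • ((∏ r ∈ (K : Finset (Fin n)) \ J, t r) • ω.exteriorPower p K) := by
        rw [AlternatingMap.map_smul_univ, hprod, exteriorPower.basis_apply]
        rw [show (fun k => ω (f k)) = (⇑ω ∘ ⇑eK) ∘ ⇑π from funext fun k => congrArg ω (hσ k).symm,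
          AlternatingMap.map_perm, smul_comm]
        rfl
      simp only [Submodule.mem_comap, SetLike.mem_coe, LinearMap.flip_apply, TensorProduct.mk_apply,
        TensorProduct.smul_tmul]
      have h2 := Submodule.subset_span (R := B) hmem
      rw [hval] at h2
      rcases Int.units_eq_one_or (Equiv.Perm.sign π) with h | h <;> rw [h] at h2
      · rwa [one_smul] at h2
      · rw [Units.neg_smul, one_smul, TensorProduct.tmul_neg] at h2
        exact neg_mem_iff.mp h2
    exact key ((mem_blayer ω).mp hx K)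

end Groth.Agent.H27Conn.LogLayer
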