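import Groth.Agent.H27Conn.Along
import Groth.Prelude.Def_W4swconnpcurvhiggsLogLam
import Mathlib

/-! # The pieces of a logarithmic lambda-connection: stability and generators -/

set_option autoImplicit false
set_option linter.unusedSectionVars false

noncomputable section

open TensorProduct LogConn

universe v u

namespace Groth.Agent.H27Conn.LogPiece

variable {A : Type v} {B L E : Type u} [CommRing A] [CommRing B] [Algebra A B]
  [AddCommGroup L] [Module B L] [Module A L] [IsScalarTower A B L]
  [AddCommGroup E] [Module B E] [Module A E] [IsScalarTower A B E]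
  {lam : B} {n : ℕ} {t : Fin n → B} (bΩ : Module.Basis (Fin n) B (KaehlerDifferential A B))
  (ω : Module.Basis (Fin n) B L) {ι : KaehlerDifferential A B →ₗ[B] L}
  {nabla : E →ₗ[A] E ⊗[B] L}

/-- The partial derivative along `tᵢ`. -/
def pd (i : Fin n) (b : B) : B := bΩ.coord i (KaehlerDifferential.D A B b)

theorem pd_t (hbΩ : ∀ i, bΩ i = KaehlerDifferential.D A B (t i)) (i j : Fin n) :
    pd bΩ i (t j) = if j = i then 1 else 0 := by
  rw [pd, ← hbΩ, Module.Basis.coord_apply, Module.Basis.repr_self, Finsupp.single_apply]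

theorem pd_prod_eq_zero (hbΩ : ∀ i, bΩ i = KaehlerDifferential.D A B (t i)) (i : Fin n) (K : Finset (Fin n))
    (hi : i ∉ K) : pd bΩ i (∏ j ∈ K, t j) = 0 := by
  induction K using Finset.induction_on with
  | empty => simp [pd]
  | insert a K haK ih =>
    rw [Finset.mem_insert, not_or] at hi
    have h1 := pd_t bΩ hbΩ i a
    have h2 := ih hi.2
    rw [if_neg (Ne.symm hi.1)] at h1
    simp only [pd] at h1 h2 ⊢
    rw [Finset.prod_insert haK, Derivation.leibniz, map_add, map_smul, map_smul, h1, h2]
    simp

theorem coord_iota (hbΩ : ∀ i, bΩ i = KaehlerDifferential.D A B (t i))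
    (hι : ∀ i, ι (KaehlerDifferential.D A B (t i)) = t i • ω i) (η : KaehlerDifferential A B) (i : Fin n) :
    ω.coord i (ι η) = t i * bΩ.coord i η := by
  have h : (ω.coord i) ∘ₗ ι = t i • bΩ.coord i := bΩ.ext fun j => by
    rw [LinearMap.comp_apply, hbΩ, hι, ← hbΩ, LinearMap.smul_apply, map_smul, Module.Basis.coord_apply,
      Module.Basis.coord_apply, Module.Basis.repr_self, Module.Basis.repr_self, Finsupp.single_apply]
    by_cases hji : j = i
    · subst hji; simp
    · simp [hji]
  exact LinearMap.congr_fun h η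

theorem comp_smul (hbΩ : ∀ i, bΩ i = KaehlerDifferential.D A B (t i))
    (hι : ∀ i, ι (KaehlerDifferential.D A B (t i)) = t i • ω i)
    (hc : Conn.IsLamConn (ι.compDer (KaehlerDifferential.D A B)) lam nabla) (i : Fin n) (b : B) (x : E) :
    comp nabla ω i (b • x) = b • comp nabla ω i x + (lam * (t i * pd bΩ i b)) • x := by
  rw [comp, along_eq, along_eq, hc, map_add, map_smul, map_smul, contr_tmul, smul_smul]
  congr 3
  exact coord_iota bΩ ω hbΩ hι _ i

theorem compProd_empty (x : E) : compProd nabla ω ∅ x = x := by simp [compProd]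

theorem compProd_insert (a : Fin n) (K : Finset (Fin n)) (h : ∀ b ∈ K, a < b) (x : E) :
    compProd nabla ω (insert a K) x = comp nabla ω a (compProd nabla ω K x) := by
  have ha : a ∉ K := fun h' => lt_irrefl a (h a h')
  rw [compProd, Finset.sort_insert (s := K) (r := (· ≤ ·)) (fun b hb => (h b hb).le) ha]
  rfl

/-- The `B`-span of the standard elements with arguments in a set. -/
def gspan (nabla : E →ₗ[A] E ⊗[B] L) (ω : Module.Basis (Fin n) B L) (t : Fin n → B) (G : Set E)
    (I : Finset (Fin n)) : Submodule B E :=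
  Submodule.span B (⋃ J ∈ I.powerset, (fun e => (∏ i ∈ I \ J, t i) • compProd nabla ω J e) '' G)

theorem mem_gspan {G : Set E} {I J : Finset (Fin n)} (hJ : J ⊆ I) {e : E} (he : e ∈ G) :
    (∏ i ∈ I \ J, t i) • compProd nabla ω J e ∈ gspan nabla ω t G I :=
  Submodule.subset_span (Set.mem_biUnion (Finset.mem_powerset.mpr hJ) ⟨e, he, rfl⟩)

theorem smul_mem_gspan {G : Set E} {I I' : Finset (Fin n)} (h : I ⊆ I') {y : E}
    (hy : y ∈ gspan nabla ω t G I) : (∏ i ∈ I' \ I, t i) • y ∈ gspan nabla ω t G I' := by
  induction hy using Submodule.span_induction with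
  | mem z hz =>
    obtain ⟨J, hJ, e, he, rfl⟩ := Set.mem_iUnion₂.mp hz
    have hJ' := Finset.mem_powerset.mp hJ
    rw [smul_smul, ← Finset.prod_union (Finset.disjoint_left.mpr fun x hx hx' =>
      (Finset.mem_sdiff.mp hx).2 (Finset.mem_sdiff.mp hx').1)]
    rw [Finset.sdiff_union_sdiff_cancel h hJ']
    exact mem_gspan ω (hJ'.trans h) he
  | zero => rw [smul_zero]; exact zero_mem _
  | add a b _ _ ha hb => rw [smul_add]; exact add_mem ha hb
  | smul c a _ ha => rw [smul_comm]; exact Submodule.smul_mem _ _ ha

theorem comp_mem_gspan (hbΩ : ∀ i, bΩ i = KaehlerDifferential.D A B (t i))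
    (hι : ∀ i, ι (KaehlerDifferential.D A B (t i)) = t i • ω i)
    (hc : Conn.IsLamConn (ι.compDer (KaehlerDifferential.D A B)) lam nabla)
    {G : Set E} (a : Fin n) (I : Finset (Fin n)) (h : ∀ b ∈ I, a < b) {y : E}
    (hy : y ∈ gspan nabla ω t G I) : comp nabla ω a y ∈ gspan nabla ω t G (insert a I) := by
  have ha : a ∉ I := fun h' => lt_irrefl a (h a h')
  have hta : insert a I \ I = {a} := by
    ext x; constructor
    · intro hx; obtain ⟨h1, h2⟩ := Finset.mem_sdiff.mp hx
      rcases Finset.mem_insert.mp h1 with h1 | h1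
      · exact Finset.mem_singleton.mpr h1
      · exact absurd h1 h2
    · intro hx; rw [Finset.mem_singleton.mp hx]; simp [ha]
  have key : ∀ (c : B) (y : E), y ∈ gspan nabla ω t G I → comp nabla ω a y ∈ gspan nabla ω t G (insert a I) →
      comp nabla ω a (c • y) ∈ gspan nabla ω t G (insert a I) := by
    intro c y hy hy'
    rw [comp_smul bΩ ω hbΩ hι hc]
    refine add_mem (Submodule.smul_mem _ _ hy') ?_
    rw [show (lam * (t a * pd bΩ a c)) • y = (lam * pd bΩ a c) • ((∏ i ∈ insert a I \ I, t i) • y) by
      rw [hta, Finset.prod_singleton, smul_smul]; congr 1; ring]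
    exact Submodule.smul_mem _ _ (smul_mem_gspan ω (Finset.subset_insert a I) hy)
  induction hy using Submodule.span_induction with
  | mem z hz =>
    obtain ⟨J, hJ, e, he, rfl⟩ := Set.mem_iUnion₂.mp hz
    have hJ' := Finset.mem_powerset.mp hJ
    rw [comp_smul bΩ ω hbΩ hι hc, pd_prod_eq_zero bΩ hbΩ a (I \ J) (fun h' => ha (Finset.mem_sdiff.mp h').1),
      mul_zero, mul_zero, zero_smul, add_zero, ← compProd_insert ω a J (fun b hb => h b (hJ' hb)),
      show I \ J = insert a I \ insert a J by
        ext i
        simp only [Finset.mem_sdiff, Finset.mem_insert]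
        constructor
        · rintro ⟨h1, h2⟩
          exact ⟨Or.inr h1, fun h => h.elim (fun e => ha (e ▸ h1)) h2⟩
        · rintro ⟨h1 | h1, h2⟩
          · exact absurd (Or.inl h1) h2
          · exact ⟨h1, fun h => h2 (Or.inr h)⟩]
    exact mem_gspan ω (Finset.insert_subset_insert a hJ') he
  | zero => rw [map_zero]; exact zero_mem _
  | add x y _ _ hx hy => rw [map_add]; exact add_mem hx hy
  | smul c y hy ih => exact key c y hy ih

theorem compProd_mem_gspan (hbΩ : ∀ i, bΩ i = KaehlerDifferential.D A B (t i))
    (hι : ∀ i, ι (KaehlerDifferential.D A B (t i)) = t i • ω i)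
    (hc : Conn.IsLamConn (ι.compDer (KaehlerDifferential.D A B)) lam nabla)
    {G : Set E} (hG : Submodule.span B G = ⊤) (I : Finset (Fin n)) (x : E) :
    compProd nabla ω I x ∈ gspan nabla ω t G I := by
  induction I using Finset.induction_on_min generalizing x with
  | empty =>
    have hx : x ∈ Submodule.span B G := by rw [hG]; trivial
    rw [compProd_empty]
    refine Submodule.span_le.mpr (fun e he => ?_) hx
    simpa [compProd_empty] using mem_gspan (nabla := nabla) (t := t) ω (Finset.Subset.refl ∅) he
  | insert a I hI ih =>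
    rw [compProd_insert ω a I hI]
    exact comp_mem_gspan bΩ ω hbΩ hι hc a I hI (ih x)

theorem piece_eq_gspan (hbΩ : ∀ i, bΩ i = KaehlerDifferential.D A B (t i))
    (hι : ∀ i, ι (KaehlerDifferential.D A B (t i)) = t i • ω i)
    (hc : Conn.IsLamConn (ι.compDer (KaehlerDifferential.D A B)) lam nabla)
    {G : Set E} (hG : Submodule.span B G = ⊤) (I : Finset (Fin n)) :
    piece nabla ω t I = (gspan nabla ω t G I).restrictScalars A := by
  have hle : ∀ (G : Set E), Submodule.span B G = ⊤ → piece nabla ω t I ≤ (gspan nabla ω t G I).restrictScalars A := by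
    intro G hG
    refine iSup₂_le fun J hJ => ?_
    rintro _ ⟨x, rfl⟩
    exact smul_mem_gspan ω (Finset.mem_powerset.mp hJ) (compProd_mem_gspan bΩ ω hbΩ hι hc hG J x)
  -- the set of standard elements is stable under scalars
  have hstab : ∀ (b : B) (J : Finset (Fin n)) (x : E), b • compProd nabla ω J x ∈ piece nabla ω t J := by
    intro b J
    induction J using Finset.induction_on_min generalizing b with
    | empty =>
      intro x
      rw [compProd_empty]
      refine Submodule.mem_iSup_of_mem ∅ (Submodule.mem_iSup_of_mem (by simp) ⟨b • x, ?_⟩)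
      simp [compProd]
    | insert a J hJ ih =>
      intro x
      have ha : a ∉ J := fun h' => lt_irrefl a (hJ a h')
      have up : ∀ (c : B), c = t a → ∀ y ∈ piece nabla ω t J, c • y ∈ piece nabla ω t (insert a J) := by
        intro c hc' y hy
        refine Submodule.iSup_induction _ (motive := fun y => c • y ∈ piece nabla ω t (insert a J)) hy ?_
          (by rw [smul_zero]; exact zero_mem _) (fun y z hy hz => by rw [smul_add]; exact add_mem hy hz)
        intro K y hy
        refine Submodule.iSup_induction _ (motive := fun y => c • y ∈ piece nabla ω t (insert a J)) hy ?_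
          (by rw [smul_zero]; exact zero_mem _) (fun y z hy hz => by rw [smul_add]; exact add_mem hy hz)
        rintro hK _ ⟨z, rfl⟩
        have hK' := Finset.mem_powerset.mp hK
        have haK : a ∉ K := fun h' => ha (hK' h')
        refine Submodule.mem_iSup_of_mem K (Submodule.mem_iSup_of_mem
          (Finset.mem_powerset.mpr (hK'.trans (Finset.subset_insert a J))) ⟨z, ?_⟩)
        show (∏ i ∈ insert a J \ K, t i) • compProd nabla ω K z = c • ((∏ i ∈ J \ K, t i) • compProd nabla ω K z)
        rw [Finset.insert_sdiff_of_notMem _ haK, Finset.prod_insert (fun h' => ha (Finset.mem_sdiff.mp h').1), hc', mul_smul]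
      have down : ∀ y ∈ piece nabla ω t J, comp nabla ω a y ∈ piece nabla ω t (insert a J) := by
        intro y hy
        refine Submodule.iSup_induction _ (motive := fun y => comp nabla ω a y ∈ piece nabla ω t (insert a J)) hy ?_
          (by rw [map_zero]; exact zero_mem _) (fun y z hy hz => by rw [map_add]; exact add_mem hy hz)
        intro K y hy
        refine Submodule.iSup_induction _ (motive := fun y => comp nabla ω a y ∈ piece nabla ω t (insert a J)) hy ?_
          (by rw [map_zero]; exact zero_mem _) (fun y z hy hz => by rw [map_add]; exact add_mem hy hz)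
        rintro hK _ ⟨z, rfl⟩
        have hK' := Finset.mem_powerset.mp hK
        have haK : a ∉ K := fun h' => ha (hK' h')
        refine Submodule.mem_iSup_of_mem (insert a K) (Submodule.mem_iSup_of_mem
          (Finset.mem_powerset.mpr (Finset.insert_subset_insert a hK')) ⟨z, ?_⟩)
        show (∏ i ∈ insert a J \ insert a K, t i) • compProd nabla ω (insert a K) z =
          comp nabla ω a ((∏ i ∈ J \ K, t i) • compProd nabla ω K z)
        rw [comp_smul bΩ ω hbΩ hι hc, pd_prod_eq_zero bΩ hbΩ a (J \ K) (fun h' => ha (Finset.mem_sdiff.mp h').1),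
          mul_zero, mul_zero, zero_smul, add_zero, compProd_insert ω a K (fun b hb => hJ b (hK' hb))]
        congr 2
        ext i
        simp only [Finset.mem_sdiff, Finset.mem_insert]
        constructor
        · rintro ⟨h1 | h1, h2⟩
          · exact absurd (Or.inl h1) h2
          · exact ⟨h1, fun h => h2 (Or.inr h)⟩
        · rintro ⟨h1, h2⟩
          exact ⟨Or.inr h1, fun h => h.elim (fun e => ha (e ▸ h1)) h2⟩
      have h1 := comp_smul bΩ ω hbΩ hι hc a b (compProd nabla ω J x)
      rw [compProd_insert ω a J hJ, show b • comp nabla ω a (compProd nabla ω J x) =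
        comp nabla ω a (b • compProd nabla ω J x) - t a • ((lam * pd bΩ a b) • compProd nabla ω J x) by
          rw [h1, smul_smul, show t a * (lam * pd bΩ a b) = lam * (t a * pd bΩ a b) by ring, add_sub_cancel_right]]
      exact sub_mem (down _ (ih b x)) (up _ rfl _ (ih _ x))
  refine le_antisymm (hle G hG) fun y hy => ?_
  rw [Submodule.restrictScalars_mem] at hy
  suffices ∀ c : B, c • y ∈ piece nabla ω t I by simpa using this 1
  induction hy using Submodule.span_induction with
  | mem z hz =>
    intro c
    obtain ⟨J, hJ, e, -, rfl⟩ := Set.mem_iUnion₂.mp hz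
    rw [smul_comm]
    have h := hstab c J e
    refine Submodule.iSup_induction _ (motive := fun y => (∏ i ∈ I \ J, t i) • y ∈ piece nabla ω t I) h ?_
      (by rw [smul_zero]; exact zero_mem _) (fun y z hy hz => by rw [smul_add]; exact add_mem hy hz)
    intro K y hy
    refine Submodule.iSup_induction _ (motive := fun y => (∏ i ∈ I \ J, t i) • y ∈ piece nabla ω t I) hy ?_
      (by rw [smul_zero]; exact zero_mem _) (fun y z hy hz => by rw [smul_add]; exact add_mem hy hz)
    rintro hK _ ⟨z, rfl⟩
    have hK' := Finset.mem_powerset.mp hK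
    have hJ' := Finset.mem_powerset.mp hJ
    refine Submodule.mem_iSup_of_mem K (Submodule.mem_iSup_of_mem (Finset.mem_powerset.mpr (hK'.trans hJ')) ⟨z, ?_⟩)
    show (∏ i ∈ I \ K, t i) • compProd nabla ω K z = (∏ i ∈ I \ J, t i) • ((∏ i ∈ J \ K, t i) • compProd nabla ω K z)
    rw [smul_smul, ← Finset.prod_union (Finset.disjoint_left.mpr fun x hx hx' =>
      (Finset.mem_sdiff.mp hx).2 (Finset.mem_sdiff.mp hx').1), Finset.sdiff_union_sdiff_cancel hJ' hK']
  | zero => intro c; rw [smul_zero]; exact zero_mem _
  | add a b _ _ ha hb => intro c; rw [smul_add]; exact add_mem (ha c) (hb c)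
  | smul r a _ ha => intro c; rw [smul_smul]; exact ha _

theorem smul_mem_piece (hbΩ : ∀ i, bΩ i = KaehlerDifferential.D A B (t i))
    (hι : ∀ i, ι (KaehlerDifferential.D A B (t i)) = t i • ω i)
    (hc : Conn.IsLamConn (ι.compDer (KaehlerDifferential.D A B)) lam nabla)
    {I : Finset (Fin n)} (b : B) {x : E} (hx : x ∈ piece nabla ω t I) : b • x ∈ piece nabla ω t I := by
  rw [piece_eq_gspan bΩ ω hbΩ hι hc (Submodule.span_univ (R := B) (M := E))] at hx ⊢
  exact Submodule.smul_mem _ b hx

end Groth.Agent.H27Conn.LogPiece
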